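import Groth.Agent.Lib.ExchangeFP29.KPush.Push
import Groth.Agent.S0843
import Groth.Agent.S0844
import Groth.Agent.Lib.Curves.GlobalSections
import Mathlib.Algebra.Order.Antidiag.FinsuppEquiv
import Mathlib.RingTheory.MvPolynomial.Homogeneous

/-!
# The direct image of `O(m)` from `P^n_T`
-/

set_option autoImplicit false
set_option linter.style.haveILetI false
universe u

open CategoryTheory CategoryTheory.Limits AlgebraicGeometry Opposite

noncomputable section

namespace Groth.Agent.Lib.ExchangeFP29.KPush.TwistPush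

open Groth.Agent Groth.Agent.Lib TensorMod.Basic Reg

/-- The monomials of degree `m`. -/
theorem nonempty_homogeneous (R : Type u) [CommRing R] (n m : ℕ) :
    Nonempty (↥(MvPolynomial.homogeneousSubmodule (Fin (n + 1)) R m) ≃ₗ[R]
      (Fin ((n + m).choose m) → R)) := by
  classical
  let s : Finset (Fin (n + 1) →₀ ℕ) := (Finset.univ : Finset (Fin (n + 1))).finsuppAntidiag m
  have e : MvPolynomial.homogeneousSubmodule (Fin (n + 1)) R m =
      MvPolynomial.restrictSupport R (s : Set (Fin (n + 1) →₀ ℕ)) := by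
    rw [MvPolynomial.homogeneousSubmodule_eq_finsupp_supported]
    have hs : (s : Set (Fin (n + 1) →₀ ℕ)) = {d | d.degree = m} := by
      ext d
      simp [s, Finset.mem_finsuppAntidiag, Finsupp.degree_eq_sum]
    rw [hs]
    rfl
  have hc : s.card = (n + m).choose m := by
    simp only [s]
    rw [Finset.card_finsuppAntidiag_nat_eq_choose]
    simp
  exact ⟨(LinearEquiv.ofEq _ _ e).trans ((MvPolynomial.basisRestrictSupport R _).equivFun.trans
    (LinearEquiv.funCongrLeft R R (Finset.equivFinOfCardEq hc).symm))⟩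

/-- The base `Spec ℤ`. -/
abbrev Z : Type u := ULift.{u} ℤ

theorem surjective_intCast : Function.Surjective (Int.cast : ℤ → Z.{u}) := fun r =>
  ⟨r.down, ULift.ext _ _ (by simp)⟩

theorem addEquiv_smul {R : Type u} [CommRing R] (hR : Function.Surjective (Int.cast : ℤ → R))
    {M N : Type u} [AddCommGroup M] [Module R M] [AddCommGroup N] [Module R N] (f : M ≃+ N)
    (r : R) (x : M) : f (r • x) = r • f x := by
  obtain ⟨k, rfl⟩ := hR r
  rw [Int.cast_smul_eq_zsmul, Int.cast_smul_eq_zsmul, map_zsmul]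

/-- The additive equivalence of a linear one, whatever the module structures. -/
def toAdd {R M N : Type u} {_ : Semiring R} {_ : AddCommGroup M} {_ : AddCommGroup N}
    {mM : Module R M} {mN : Module R N} (e : M ≃ₗ[R] N) : M ≃+ N := e.toAddEquiv

variable {n : ℕ} (m : ℕ)

theorem isFP_tw : CohB1.IsFP (Twist.twistProjSpace n Z.{u} (m : ℤ)) :=
  TensorMod.FPConv.isFP_of_isFinLocFree (TensorMod.LocFree.of_rank
    (TensorMod.LocFree.of_isInvertible (ProjCoh.Coherent.isInvertible_tw _)))

/-- A quasi-coherent module on an affine scheme with free sections is free. -/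
theorem nonempty_free_of_sections {R : CommRingCat.{u}} (G : (Spec R).Modules) [G.IsQuasicoherent]
    (r : ℕ) (c : ((moduleSpecΓFunctor (R := R)).obj G) ≃ₗ[R] (Fin r → R)) :
    Nonempty (G ≅ FlatMod.freeMod (Spec R) r) := by
  haveI : IsIso (Scheme.Modules.fromTildeΓ G) := (isQuasicoherent_iff_isIso_fromTildeΓ G).1 ‹_›
  let f : Fin r → ModuleCat.{u} R := fun _ => ModuleCat.of R R
  let e₁ : ModuleCat.of R (Fin r → R) ≅ ∐ f :=
    ((biproduct.isoCoproduct f).symm ≪≫ ModuleCat.biproductIsoPi f).symm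
  haveI : PreservesColimitsOfSize.{u, u} (tilde.functor R) :=
    (tilde.adjunction (R := R)).leftAdjoint_preservesColimits
  haveI : PreservesColimitsOfSize.{0, 0} (tilde.functor R) :=
    preservesSmallestColimits_of_preservesColimits _
  exact ⟨(asIso (Scheme.Modules.fromTildeΓ G)).symm ≪≫
    (tilde.functor R).mapIso (c.toModuleIso ≪≫ e₁) ≪≫
    PreservesCoproduct.iso _ f ≪≫ Sigma.mapIso (fun _ => tildeSelf)⟩

/-- The global sections of `O(m)` over `Spec ℤ`. -/
theorem nonempty_sections :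
    Nonempty (((moduleSpecΓFunctor (R := CommRingCat.of Z.{u})).obj
        ((Scheme.Modules.pushforward (CohB1.ProjSpace.toSpec n Z.{u})).obj
          (Twist.twistProjSpace n Z.{u} (m : ℤ)))) ≃+ (Fin ((n + m).choose m) → Z.{u})) := by
  obtain ⟨a⟩ := Groth.Agent.S0843.result Z.{u} n m
  obtain ⟨b⟩ := nonempty_homogeneous Z.{u} n m
  exact ⟨(Curves.GlobalSections.h0Equiv (Twist.twistProjSpace n Z.{u} (m : ℤ))).symm.trans
    ((toAdd a).trans (toAdd b))⟩

/-- The direct image to `Spec ℤ` is free. -/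
theorem nonempty_base :
    Nonempty ((Scheme.Modules.pushforward (CohB1.ProjSpace.toSpec n Z.{u})).obj
        (Twist.twistProjSpace n Z.{u} (m : ℤ)) ≅
      FlatMod.freeMod (Spec (CommRingCat.of Z.{u})) ((n + m).choose m)) := by
  haveI : (Twist.twistProjSpace n Z.{u} (m : ℤ)).IsQuasicoherent :=
    (ProjCoh.Coherent.isCoh_tw (n := n) (R := Z.{u}) (m : ℤ)).1
  haveI : Coh.IsQCoh (Twist.twistProjSpace n Z.{u} (m : ℤ)) := ‹_›
  haveI : IsProper (CohB1.ProjSpace.toSpec n Z.{u}) := ProjSpace.Basic.isProper_toSpec n Z.{u}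
  haveI : ((Scheme.Modules.pushforward (CohB1.ProjSpace.toSpec n Z.{u})).obj
      (Twist.twistProjSpace n Z.{u} (m : ℤ))).IsQuasicoherent :=
    QCoh.Pushforward.isQCoh_pushforward (CohB1.ProjSpace.toSpec n Z.{u})
      (M := Twist.twistProjSpace n Z.{u} (m : ℤ))
  obtain ⟨c₀⟩ := nonempty_sections.{u} (n := n) m
  exact nonempty_free_of_sections _ _
    { c₀ with
      map_smul' := fun r x => addEquiv_smul surjective_intCast c₀ r x }

/-- The fibres of `O(m)` have no first cohomology. -/
theorem fiberRank_one (s : Spec (CommRingCat.of Z.{u})) :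
    CohIII.fiberRank (CohB1.ProjSpace.toSpec n Z.{u}) (Twist.twistProjSpace n Z.{u} (m : ℤ)) 1 s = 0 := by
  haveI : (Twist.twistProjSpace n Z.{u} (m : ℤ)).IsQuasicoherent :=
    (ProjCoh.Coherent.isCoh_tw (n := n) (R := Z.{u}) (m : ℤ)).1
  haveI : IsProper (CohB1.ProjSpace.toSpec n Z.{u}) := ProjSpace.Basic.isProper_toSpec n Z.{u}
  haveI : Smooth (CohB1.ProjSpace.toSpec n Z.{u}) := ProjSpace.Basic.smooth_toSpec n Z.{u}
  let p : PrimeSpectrum Z.{u} := s
  let L := p.asIdeal.ResidueField
  have hs : (Spec.map (CommRingCat.ofHom (algebraMap Z.{u} L))) (IsLocalRing.closedPoint L) = s :=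
    (FieldPoint.comap_closedPoint (algebraMap Z.{u} L)).trans
      (PrimeSpectrum.ext (Ideal.ker_algebraMap_residueField p.asIdeal))
  have hfl : FlatMod.IsFlatOver (CohB1.ProjSpace.toSpec n Z.{u}) (Twist.twistProjSpace n Z.{u} (m : ℤ)) :=
    _root_.ZarCoh.Exchange.NearFibre.isFlatOver_of_isFinLocFree _ (TensorMod.LocFree.of_rank
      (TensorMod.LocFree.of_isInvertible (ProjCoh.Coherent.isInvertible_tw _)))
  letI : (CohB1.ProjSpace n L).Over (Spec (CommRingCat.of L)) := ⟨CohB1.ProjSpace.toSpec n L⟩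
  rw [← hs, ← FieldPoint.finrank_HH_eq _ _ (isFP_tw m) hfl (CohB1.ProjSpace.toSpec n L)
    (Spec.map (CommRingCat.ofHom (algebraMap Z.{u} L))) _
    (ProjSpace.BaseChange.isPullback_projMap n (algebraMap Z.{u} L)) 1]
  obtain ⟨e⟩ := ProjSpace.TwistBC.nonempty_iso (n := n) (algebraMap Z.{u} L) (m : ℤ)
  haveI := Groth.Agent.S0844.result L n (m : ℤ) 1 (by omega) (by omega)
  haveI := ProjKoszul.Chase.subsingleton_of_iso L e.symm (q := 1)
    (show Subsingleton (Coh.HH (CohB1.ProjSpace n L) (Twist.twistProjSpace n L (m : ℤ)) 1) from ‹_›)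
  exact Module.finrank_zero_of_subsingleton

/-- The direct image of `O(m)` is free. -/
theorem nonempty_push (T : Scheme.{u}) :
    Nonempty ((Scheme.Modules.pushforward (KRR.pr n T)).obj (Twist.twistOver n T (m : ℤ)) ≅
      FlatMod.freeMod T ((n + m).choose m)) := by
  haveI : (Twist.twistProjSpace n Z.{u} (m : ℤ)).IsQuasicoherent :=
    (ProjCoh.Coherent.isCoh_tw (n := n) (R := Z.{u}) (m : ℤ)).1
  haveI : IsProper (CohB1.ProjSpace.toSpec n Z.{u}) := ProjSpace.Basic.isProper_toSpec n Z.{u}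
  haveI : Smooth (CohB1.ProjSpace.toSpec n Z.{u}) := ProjSpace.Basic.smooth_toSpec n Z.{u}
  have hfl : FlatMod.IsFlatOver (CohB1.ProjSpace.toSpec n Z.{u}) (Twist.twistProjSpace n Z.{u} (m : ℤ)) :=
    _root_.ZarCoh.Exchange.NearFibre.isFlatOver_of_isFinLocFree _ (TensorMod.LocFree.of_rank
      (TensorMod.LocFree.of_isInvertible (ProjCoh.Coherent.isInvertible_tw _)))
  have sq : IsPullback (Koszul.π (n := n) (T := T)) (KRR.pr n T) (CohB1.ProjSpace.toSpec n Z.{u})
      (specULiftZIsTerminal.from T) := IsPullback.of_hasPullback _ _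
  haveI := Main.isIso_bc0 _ _ (isFP_tw m) hfl (specULiftZIsTerminal.from T) _ _ sq
    (fun t => fiberRank_one m _)
  obtain ⟨e⟩ := nonempty_base (n := n) m
  exact ⟨(asIso (CohBC.bc0 (CohB1.ProjSpace.toSpec n Z.{u}) (specULiftZIsTerminal.from T) (KRR.pr n T)
      (Koszul.π (n := n) (T := T)) sq.w (Twist.twistProjSpace n Z.{u} (m : ℤ)))).symm ≪≫
    (Scheme.Modules.pullback _).mapIso e ≪≫ TensorMod.LocFree.pullbackFreeModIso _ _⟩

theorem subsingleton_one {L : Type u} [Field L] {X : Scheme.{u}}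
    (g : CohB1.ProjSpace n L ⟶ X) (d : ℤ) (i : ℕ)
    (h : Subsingleton (Coh.HH (CohB1.ProjSpace n L) (Twist.twistProjSpace n L d) i)) :
    Subsingleton (Coh.HH (CohB1.ProjSpace n L) (CohB1.tensorMod
      ((Scheme.Modules.pullback g).obj (Coh.structureModule X)) (ProjCoh.Coherent.tw n L d)) i) :=
  ProjKoszul.Chase.subsingleton_of_iso L
    (tensorIso (PicLoc.pullbackStructureIso g) (Iso.refl _) ≪≫
      leftUnit (ProjCoh.Coherent.tw n L d)).symm h

variable (n) in
/-- The structure sheaf is regular. -/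
theorem RB_one (T : Scheme.{u}) : RB (Coh.structureModule (KRR.PY n T)) := by
  have hB : B (Coh.structureModule (KRR.PY n T)) :=
    TensorMod.LocFree.of_iso (TensorMod.LocFree.freeModOneIso (KRR.PY n T))
      (TensorMod.LocFree.of_rank (TensorMod.LocFree.isFinLocFree_freeMod _ 1))
  haveI := TensorMod.FPConv.isFP_of_isFinLocFree hB
  haveI : SheafOfModules.IsQuasicoherent (R := (KRR.PY n T).ringCatSheaf)
      (Coh.structureModule (KRR.PY n T)) := inferInstance
  refine ⟨hB, RegSheaf.isRegSheaf _ ‹_› (Push.flat hB) fun s i hi => ?_⟩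
  let σ := T.fromSpecResidueField s
  refine (ProjFibre.subsingleton_proj_iff _ ‹_› (Push.flat hB) (L := T.residueField s) σ
    (Scheme.fromSpecResidueField_apply s _) _ i).1 ?_
  exact subsingleton_one (L := T.residueField s) _ _ i
    (Groth.Agent.S0844.result (T.residueField s) n (0 - (i : ℤ)) i (by omega) (by omega))

end Groth.Agent.Lib.ExchangeFP29.KPush.TwistPush
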