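import Mathlib.Algebra.Homology.HomotopyCategory.Acyclic
import Mathlib.Algebra.Homology.ShortComplex.Abelian
import Mathlib.Algebra.BigOperators.Module

/-!
# Additive functions on exact complexes
-/

set_option autoImplicit false
set_option linter.style.haveILetI false

universe w v u

open CategoryTheory CategoryTheory.Limits

namespace Groth.Agent.Lib.ExchangeFP29.KPush.AltSum

variable {C : Type u} [Category.{v} C] [Abelian C] (K : CochainComplex C ℤ)

/-- The short exact sequence of cycles. -/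
noncomputable def sc (i : ℤ) : ShortComplex C :=
  ShortComplex.mk (K.iCycles i) (K.toCycles i (i + 1)) (by
    rw [← cancel_mono (K.iCycles (i + 1))]; simp)

theorem shortExact_sc (i : ℤ) (h : K.ExactAt (i + 1)) : (sc K i).ShortExact where
  exact := by
    let T := ShortComplex.mk (K.iCycles i) (K.d i (i + 1)) (by simp)
    have hT : T.Exact := ShortComplex.exact_of_f_is_kernel _ (K.cyclesIsKernel i (i + 1) (by simp))
    let φ : sc K i ⟶ T :=
      { τ₁ := 𝟙 _, τ₂ := 𝟙 _, τ₃ := K.iCycles (i + 1)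
        comm₁₂ := by simp [sc, T]
        comm₂₃ := by simp [sc, T] }
    haveI : Epi φ.τ₁ := inferInstanceAs (Epi (𝟙 _))
    haveI : IsIso φ.τ₂ := inferInstanceAs (IsIso (𝟙 _))
    haveI : Mono φ.τ₃ := inferInstanceAs (Mono (K.iCycles (i + 1)))
    exact (ShortComplex.exact_iff_of_epi_of_isIso_of_mono φ).2 hT
  mono_f := inferInstanceAs (Mono (K.iCycles i))
  epi_g := by
    refine Preadditive.epi_of_cancel_zero _ fun {W} g hg => ?_
    obtain ⟨l, hl⟩ := CokernelCofork.IsColimit.desc'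
      (K.homologyIsCokernel i (i + 1) (by simp)) g hg
    have hπ : K.homologyπ (i + 1) = 0 :=
      ((K.exactAt_iff_isZero_homology (i + 1)).1 h).eq_of_tgt _ _
    refine hl.symm.trans ?_
    show K.homologyπ (i + 1) ≫ l = 0
    rw [hπ, zero_comp]

/-- The cycles in top degree are the top term. -/
noncomputable def topIso (i : ℤ) (h : IsZero (K.X (i + 1))) : K.cycles i ≅ K.X i :=
  K.iCyclesIso i (i + 1) (by simp) (h.eq_of_tgt _ _)

theorem isZero_cycles (i : ℤ) (h : K.ExactAt i) (hz : IsZero (K.X (i - 1))) : IsZero (K.cycles i) := by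
  obtain ⟨j, rfl⟩ : ∃ j, i = j + 1 := ⟨i - 1, by omega⟩
  haveI : Epi (sc K j).g := (shortExact_sc K j h).epi_g
  rw [show j + 1 - 1 = j by omega] at hz
  exact @IsZero.of_epi _ _ _ _ _ (sc K j).g (shortExact_sc K j h).epi_g hz

theorem sum_eq_zero_of_split {M : Type w} [AddCommGroup M] (x a : ℕ → M) (N : ℕ) (h0 : a 0 = 0)
    (h : ∀ j, j < N → x j = a j + a (j + 1)) (hN : x N = a N) :
    ∑ j ∈ Finset.range (N + 1), (-1 : ℤ) ^ j • x j = 0 := by
  have key : ∀ k, k ≤ N → ∑ j ∈ Finset.range k, (-1 : ℤ) ^ j • x j = -((-1 : ℤ) ^ k • a k) := by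
    intro k
    induction k with
    | zero => simp [h0]
    | succ k ih =>
      intro hk
      rw [Finset.sum_range_succ, ih (by omega), h k (by omega), smul_add, pow_succ, mul_neg_one,
        neg_smul, neg_neg, neg_add_cancel_left]
  rw [Finset.sum_range_succ, key N le_rfl, hN, neg_add_cancel]

/-- An additive function has vanishing alternating sum on an exact complex with admissible cycles. -/
theorem alt_sum {M : Type w} [AddCommGroup M] (P : C → Prop) (ψ : C → M)
    (hψ : ∀ S : ShortComplex C, S.ShortExact → P S.X₁ → P S.X₂ → P S.X₃ →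
      ψ S.X₂ = ψ S.X₁ + ψ S.X₃)
    (hiso : ∀ {A B : C}, (A ≅ B) → P A → ψ A = ψ B) (h0 : ∀ A : C, IsZero A → ψ A = 0)
    (N : ℕ) (hex : ∀ i, K.ExactAt i) (hhi : IsZero (K.X 1))
    (hlo : IsZero (K.X (-(N : ℤ) - 1))) (hX : ∀ j, j ≤ N → P (K.X (-(N : ℤ) + j)))
    (hZ : ∀ j, j ≤ N → P (K.cycles (-(N : ℤ) + j))) :
    ∑ j ∈ Finset.range (N + 1), (-1 : ℤ) ^ j • ψ (K.X (-(N : ℤ) + j)) = 0 := by
  refine sum_eq_zero_of_split _ (fun j => ψ (K.cycles (-(N : ℤ) + j))) N
    (h0 _ (isZero_cycles K _ (hex _) (by simpa using hlo))) (fun j hj => ?_) ?_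
  · have e : -(N : ℤ) + (j : ℤ) + 1 = -(N : ℤ) + ((j + 1 : ℕ) : ℤ) := by push_cast; omega
    have := hψ (sc K (-(N : ℤ) + j)) (shortExact_sc K _ (hex _)) (hZ j hj.le) (hX j hj.le)
      (show P (K.cycles _) by rw [e]; exact hZ (j + 1) hj)
    refine this.trans (congrArg (ψ (K.cycles _) + ·) ?_)
    exact congrArg (fun z => ψ (K.cycles z)) e
  · exact (hiso (topIso K _ (by simpa using hhi)) (hZ N le_rfl)).symm

end Groth.Agent.Lib.ExchangeFP29.KPush.AltSum
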