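import Groth.Agent.Lib.ExchangeFP29.KPush.Proj
import Groth.Agent.Lib.KVec.PushCl
import Groth.Agent.Lib.KVec.Pull
import Groth.Agent.Lib.CohBasics.Closure
import Groth.Agent.Lib.ZarCoh.Morph
import Groth.Agent.Lib.ZarCoh.RpushVanish

/-!
# Twisted resolutions and the direct image on coherent classes
-/

set_option autoImplicit false
set_option linter.style.haveILetI false
universe u v

open CategoryTheory CategoryTheory.Limits AlgebraicGeometry

noncomputable section

namespace Groth.Agent.Lib.ExchangeFP29.KPush.Coh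

open Groth.Agent Groth.Agent.Lib TensorMod.Basic Reg

attribute [local instance] HasDerivedCategory.standard

variable {n : ℕ} {T : Scheme.{u}}

/-- A sequence satisfying the Koszul recursion that vanishes far out vanishes at zero. -/
theorem descent {M : Type v} [AddCommGroup M] (a : ℕ → M) (m : ℕ)
    (hrec : ∀ k, ∑ j ∈ Finset.range (n + 2), (-1 : ℤ) ^ j • (n + 1).choose j • a (k + j) = 0)
    (hz : ∀ k, m ≤ k → a k = 0) : a 0 = 0 := by
  suffices key : ∀ d k, m ≤ k + d → a k = 0 from key m 0 (by omega)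
  intro d
  induction d with
  | zero => exact fun k hk => hz k (by omega)
  | succ d ih =>
    intro k hk
    refine (Ext.eq_sum_of_sum_eq_zero (f := fun j => a (k + j)) (hrec k)).trans
      (Finset.sum_eq_zero fun j _ => ?_)
    rw [ih _ (by omega), smul_zero, smul_zero]

theorem isCoh_of_B {Y : Scheme.{u}} {F : Y.Modules} (hF : FlatMod.IsFinLocFree F) : Coh.IsCoh F := by
  haveI := TensorMod.FPConv.isFP_of_isFinLocFree hF
  exact ⟨inferInstance, inferInstance⟩

theorem isCoh_X3 {Y : Scheme.{u}} {S : ShortComplex Y.Modules} (hS : S.ShortExact)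
    (h₁ : Coh.IsCoh S.X₁) (h₂ : Coh.IsCoh S.X₂) : Coh.IsCoh S.X₃ := by
  haveI := hS.epi_g
  exact CohBasics.Closure.isCoh_of_iso
    ((cokernelIsCokernel S.f).coconePointUniqueUpToIso hS.gIsCokernel)
    (CohBasics.Closure.isCoh_cokernel S.f h₁.1 h₂)

/-- The class of a coherent module. -/
abbrev cc {Y : Scheme.{u}} (M : Y.Modules) : SGA6.Kcoh Y :=
  KZero.clSub (fun M : Y.Modules => Coh.IsCoh M) M

theorem cc_iso {Y : Scheme.{u}} {A C : Y.Modules} (e : A ≅ C) (hA : Coh.IsCoh A) : cc A = cc C := by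
  have hZ : IsZero (kernel (𝟙 A)) := isZero_kernel_of_mono (𝟙 A)
  have hC := CohBasics.Closure.isCoh_of_iso e hA
  have hS := KRes.KSub.shortExact_iso e hZ
  have hZc : Coh.IsCoh (kernel (𝟙 A)) := isCoh_X3 hS hA hC
  have h := KRes.KSub.rel (P := fun M : Y.Modules => Coh.IsCoh M) hS hA hC hZc
  dsimp only [ShortComplex.mk] at h
  rw [KRes.KSub.clSub_zero (P := fun M : Y.Modules => Coh.IsCoh M) hZ hZc, add_zero] at h
  exact h.symm

/-- The direct image. -/
abbrev push (M : (KRR.PY n T).Modules) : T.Modules :=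
  (Scheme.Modules.pushforward (KRR.pr n T)).obj M


/-- One step along a resolution. -/
theorem step (S : ShortComplex (KRR.PY n T).Modules) (hS : S.ShortExact) (c₁ : Coh.IsCoh S.X₁)
    (r₁ : KRR.IsRegSheaf n T S.X₁) (p₁ : Coh.IsCoh (push S.X₁)) (h₂ : RB S.X₂) :
    Coh.IsCoh S.X₃ ∧ KRR.IsRegSheaf n T S.X₃ ∧ Coh.IsCoh (push S.X₃) ∧
      cc (push S.X₂) = cc (push S.X₁) + cc (push S.X₃) := by
  have c₃ := isCoh_X3 hS c₁ (isCoh_of_B h₂.1)
  have r₃ : KRR.IsRegSheaf n T S.X₃ :=
    Groth.Agent.S19432.result n T S hS c₁.1 (isQCoh_of_B h₂.1) c₃.1 h₂.2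
      (Groth.Agent.S19428.result n T _ c₁.1 r₁ 1)
  have hP := Push.shortExact_push' hS c₁.1 r₁
  have p₂ : Coh.IsCoh (push S.X₂) := isCoh_of_B (Push.isFinLocFree_push h₂)
  have p₃ : Coh.IsCoh (push S.X₃) := isCoh_X3 hP p₁ p₂
  exact ⟨c₃, r₃, p₃, KRes.KSub.rel (P := fun M : T.Modules => Coh.IsCoh M) hP p₁ p₂ p₃⟩

/-- A twisted finite resolution with regular terms computes the direct image. -/
theorem regular_and_sum {G : (KRR.PY n T).Modules} {N : ℕ}
    {L : ChainComplex (KRR.PY n T).Modules ℕ}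
    {π : L ⟶ (ChainComplex.single₀ (KRR.PY n T).Modules).obj G} (h : KRR.IsLFRes G N L π) (m : ℕ)
    (hm : ∀ k, k ≤ N → RB (tw (m : ℤ) (L.X k))) :
    KRR.IsRegSheaf n T (tw (m : ℤ) G) ∧ cc (push (tw (m : ℤ) G)) =
      ∑ k ∈ Finset.range (N + 1), (-1 : ℤ) ^ k • cc (push (tw (m : ℤ) (L.X k))) := by
  haveI := h.quasiIso
  have hex : ∀ i, L.ExactAt (i + 1) := fun i =>
    (quasiIsoAt_iff_exactAt' π (i + 1) (HomologicalComplex.exactAt_single_obj _ _ _ _ (by simp))).1 inferInstance
  have key : ∀ j k, j + k = N → Coh.IsCoh (tw (m : ℤ) (L.opcycles k)) ∧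
      KRR.IsRegSheaf n T (tw (m : ℤ) (L.opcycles k)) ∧
      Coh.IsCoh (push (tw (m : ℤ) (L.opcycles k))) ∧
      cc (push (tw (m : ℤ) (L.opcycles k))) =
        ∑ i ∈ Finset.range (j + 1), (-1 : ℤ) ^ i • cc (push (tw (m : ℤ) (L.X (k + i)))) := by
    intro j
    induction j with
    | zero =>
      intro k hk
      obtain rfl : k = N := by omega
      haveI := L.isIso_pOpcycles (k + 1) k (by simp) ((h.isZero (k + 1) (by omega)).eq_of_src _ _)
      have e := (H73.RegSeq.tb (m : ℤ)).mapIso (asIso (L.pOpcycles k))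
      have hp := isCoh_of_B (Push.isFinLocFree_push (hm k le_rfl))
      refine ⟨CohBasics.Closure.isCoh_of_iso e (isCoh_of_B (hm k le_rfl).1),
        reg_congr e (hm k le_rfl).2,
        CohBasics.Closure.isCoh_of_iso ((Scheme.Modules.pushforward (KRR.pr n T)).mapIso e) hp, ?_⟩
      rw [← cc_iso ((Scheme.Modules.pushforward (KRR.pr n T)).mapIso e) hp]
      simp
    | succ j ih =>
      intro k hk
      have w : L.fromOpcycles (k + 1) k ≫ L.pOpcycles k = 0 := by
        rw [← cancel_epi (L.pOpcycles (k + 1)), HomologicalComplex.p_fromOpcycles_assoc]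
        simp
      have hmono : Mono (L.fromOpcycles (k + 1) k) := by
        refine Preadditive.mono_of_isZero_kernel' _ (L.homologyIsKernel (k + 1) k (by simp)) ?_
        exact (L.exactAt_iff_isZero_homology (k + 1)).1 (hex k)
      have hS₀ : (ShortComplex.mk _ _ w).ShortExact := by
        refine ShortComplex.ShortExact.mk' ?_ hmono inferInstance
        exact ShortComplex.exact_of_g_is_cokernel _ (isCokernelOfComp (L.pOpcycles (k + 1)) (L.d (k + 1) k)
          (L.opcyclesIsCokernel (k + 1) k (by simp)) w (by simp))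
      have hS := hS₀.map_of_exact (H73.RegSeq.tb (n := n) (T := T) (m : ℤ))
      obtain ⟨c₁, r₁, p₁, e₁⟩ := ih (k + 1) (by omega)
      have h₂ := hm k (by omega)
      obtain ⟨c₃, r₃, p₃, e⟩ := step _ hS c₁ r₁ p₁ h₂
      refine ⟨c₃, r₃, p₃, ?_⟩
      replace e : cc (push (tw (m : ℤ) (L.X k))) =
          cc (push (tw (m : ℤ) (L.opcycles (k + 1)))) + cc (push (tw (m : ℤ) (L.opcycles k))) := e
      rw [e₁] at e
      simp only [Finset.sum_range_succ' _ (j + 1), pow_zero, one_zsmul, add_zero]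
      rw [e]
      simp only [pow_succ, mul_neg, mul_one, neg_smul, Finset.sum_neg_distrib, add_assoc,
        Nat.add_comm 1]
      abel
  obtain ⟨-, hr, hp, e⟩ := key N 0 (by omega)
  let i := (H73.RegSeq.tb (n := n) (T := T) (m : ℤ)).mapIso
    ((L.isoHomologyι 0 _ rfl (L.shape _ _ (by simp))).symm ≪≫
      asIso (HomologicalComplex.homologyMap π 0) ≪≫
      HomologicalComplex.singleObjHomologySelfIso (ComplexShape.down ℕ) 0 G)
  refine ⟨reg_congr i hr, ?_⟩
  rw [← cc_iso ((Scheme.Modules.pushforward (KRR.pr n T)).mapIso i) hp, e]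
  simp

theorem isLFRes_tw {G G' : (KRR.PY n T).Modules} {N : ℕ} {L : ChainComplex (KRR.PY n T).Modules ℕ}
    {π : L ⟶ (ChainComplex.single₀ (KRR.PY n T).Modules).obj G} (h : KRR.IsLFRes G N L π) (m : ℤ)
    (e : tw m G ≅ G') :
    ∃ π' : ((H73.RegSeq.tb m).mapHomologicalComplex (ComplexShape.down ℕ)).obj L ⟶
      (ChainComplex.single₀ (KRR.PY n T).Modules).obj G',
      KRR.IsLFRes G' N (((H73.RegSeq.tb m).mapHomologicalComplex (ComplexShape.down ℕ)).obj L) π' := by
  haveI := h.quasiIso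
  let i : ((H73.RegSeq.tb m).mapHomologicalComplex (ComplexShape.down ℕ)).obj
        ((ChainComplex.single₀ (KRR.PY n T).Modules).obj G) ≅
      (ChainComplex.single₀ (KRR.PY n T).Modules).obj G' :=
    (HomologicalComplex.singleMapHomologicalComplex (H73.RegSeq.tb m) (ComplexShape.down ℕ) 0).app G ≪≫
      (ChainComplex.single₀ (KRR.PY n T).Modules).mapIso e
  refine ⟨((H73.RegSeq.tb m).mapHomologicalComplex (ComplexShape.down ℕ)).map π ≫ i.hom,
    fun k => B_tw m (h.finLocFree k), fun k hk => (H73.RegSeq.tb m).map_isZero (h.isZero k hk), ?_⟩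
  infer_instance

/-- Twisting the direct image along a morphism to `P^n_T`. -/
theorem nonempty_projection {X : Scheme.{u}} [HasInjectiveResolutions X.Modules]
    (i : X ⟶ KRR.PY n T) (E : X.Modules) (d : ℤ) :
    Nonempty (tw d ((Scheme.Modules.pushforward i).obj E) ≅ (Scheme.Modules.pushforward i).obj
      (CohB1.tensorMod E ((Scheme.Modules.pullback i).obj (Twist.twistOver n T d)))) := by
  obtain ⟨p⟩ := Groth.Agent.S0927.result i E (Twist.twistOver n T d)
    (TensorMod.LocFree.of_rank (TensorMod.LocFree.of_isInvertible (ProjFibre.isInvertible_twistOver d))) 0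
  obtain ⟨a⟩ := Main.nonempty_zeroIso i E
  obtain ⟨b⟩ := Main.nonempty_zeroIso i
    (CohB1.tensorMod ((Scheme.Modules.pullback i).obj (Twist.twistOver n T d)) E)
  exact ⟨comm _ _ ≪≫ tensorIso (Iso.refl _) a.symm ≪≫ p ≪≫ b ≪≫
    (Scheme.Modules.pushforward i).mapIso (comm _ _)⟩

/-- No higher direct images along an affine morphism into regular modules. -/
theorem isZero_Rpush_comp {X : Scheme.{u}} [HasInjectiveResolutions X.Modules]
    (i : X ⟶ KRR.PY n T) [IsAffineHom i] (E : X.Modules) [E.IsQuasicoherent]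
    (hG : Coh.IsQCoh ((Scheme.Modules.pushforward i).obj E))
    (hr : KRR.IsRegSheaf n T ((Scheme.Modules.pushforward i).obj E)) (q : ℕ) :
    IsZero ((Coh.Rpush (i ≫ KRR.pr n T) (q + 1)).obj E) := by
  obtain ⟨e⟩ := Groth.Agent.S11319.result (i ≫ KRR.pr n T) E (q + 1)
  refine RegSheaf.isZero_of_toAb (IsZero.of_iso ?_ e)
  refine ZarCoh.RpushVanish.isZero_RpushAb (i ≫ KRR.pr n T).base T.isBasis_affineOpens q fun W hW => ?_
  have hz : IsZero ((Coh.RpushAb (KRR.pr n T) (q + 1)).obj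
      (Coh.toAb ((Scheme.Modules.pushforward i).obj E))) :=
    H73.RegSeq.isZero_congr (q + 1) (tensorIso (Iso.refl _) H73.RegSeq.overZero ≪≫ rightUnit _)
      (H70.KRRReg.Local.isZero_Rp_of_le hG hr (q + 1) (by omega) 0 (by omega))
  have hs : Subsingleton (CohTop.HU (Coh.toAb ((Scheme.Modules.pushforward i).obj E)) (q + 1)
      (KRR.pr n T ⁻¹ᵁ W)) :=
    CohDelta.SerreRel.hn_eq_zero (KRR.pr n T) _ hG q hz hW
  exact @Function.Surjective.subsingleton _ _ _ hs (ZarCoh.Morph.pushMap_bijective i E (KRR.pr n T ⁻¹ᵁ W) (q + 1)).2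

end Groth.Agent.Lib.ExchangeFP29.KPush.Coh
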