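import Groth.Agent.Lib.ExchangeFP29.KPush.Reg

/-!
# Extending additive functions from regular bundles to all bundles
-/

set_option autoImplicit false
set_option linter.style.haveILetI false
universe u v

open CategoryTheory CategoryTheory.Limits AlgebraicGeometry

noncomputable section

namespace Groth.Agent.Lib.ExchangeFP29.KPush.Ext

open Groth.Agent Groth.Agent.Lib TensorMod.Basic Reg

variable {n : ℕ} {T : Scheme.{u}} {M : Type v} [AddCommGroup M]

theorem eq_sum_of_sum_eq_zero {f : ℕ → M}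
    (h : ∑ j ∈ Finset.range (n + 2), (-1 : ℤ) ^ j • (n + 1).choose j • f j = 0) :
    f 0 = ∑ j ∈ Finset.range (n + 1), (-1 : ℤ) ^ j • (n + 1).choose (j + 1) • f (j + 1) := by
  rw [Finset.sum_range_succ'] at h
  simp only [pow_zero, Nat.choose_zero_right, one_smul, pow_succ, mul_neg_one, neg_smul,
    Finset.sum_neg_distrib] at h
  exact (neg_add_eq_zero.1 h).symm

/-- Twisting twice. -/
def twTw (a b c : ℤ) (h : a + b = c) (F : (KRR.PY n T).Modules) : tw b (tw a F) ≅ tw c F :=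
  H73.RegSeq.tbTb a b c h F

/-- No twist. -/
def twZero (F : (KRR.PY n T).Modules) : tw 0 F ≅ F := RegSheaf.twZeroIso F

/-- Regular after `k` twists. -/
abbrev Lev (k : ℕ) (F : (KRR.PY n T).Modules) : Prop := B F ∧ RB (tw (k : ℤ) F)

theorem lev_succ {k : ℕ} {F : (KRR.PY n T).Modules} (h : Lev k F) : Lev (k + 1) F :=
  ⟨h.1, RB_congr (twTw (k : ℤ) 1 ((k + 1 : ℕ) : ℤ) (by push_cast; ring) F) (RB_tw h.2 1)⟩

theorem lev_add {k : ℕ} {F : (KRR.PY n T).Modules} (h : Lev k F) : ∀ m, Lev (k + m) F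
  | 0 => h
  | m + 1 => lev_succ (lev_add h m)

theorem lev_of_le {k l : ℕ} {F : (KRR.PY n T).Modules} (h : Lev k F) (hkl : k ≤ l) : Lev l F := by
  obtain ⟨m, rfl⟩ := Nat.exists_eq_add_of_le hkl
  exact lev_add h m

theorem lev_tw {k j : ℕ} {F : (KRR.PY n T).Modules} (h : Lev (k + 1) F) :
    Lev k (tw ((j + 1 : ℕ) : ℤ) F) :=
  ⟨B_tw _ h.1, RB_congr (twTw _ _ _ (by push_cast; ring) F).symm
    (lev_of_le h (show k + 1 ≤ k + (j + 1) by omega)).2⟩

theorem lev_zero_iff {F : (KRR.PY n T).Modules} : Lev 0 F ↔ RB F :=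
  ⟨fun h => RB_congr (twZero F) h.2, fun h => ⟨h.1, RB_congr (twZero F).symm h⟩⟩

theorem lev_congr {k : ℕ} {F G : (KRR.PY n T).Modules} (e : F ≅ G) (h : Lev k F) : Lev k G :=
  ⟨TensorMod.LocFree.of_iso e h.1, RB_congr ((H73.RegSeq.tb _).mapIso e) h.2⟩

/-- Every bundle is regular after enough twists. -/
theorem exists_lev [CompactSpace T] (F : (KRR.PY n T).Modules) (hF : B F) : ∃ k, Lev k F := by
  haveI := TensorMod.FPConv.isFP_of_isFinLocFree hF
  haveI : F.IsQuasicoherent := inferInstance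
  have hfl := _root_.ZarCoh.Exchange.NearFibre.isFlatOver_of_isFinLocFree (KRR.pr n T) hF
  obtain ⟨m, hm⟩ := ProjFibre.exists_forall_regPt F ‹_› hfl
  refine ⟨m, hF, B_tw _ hF, ?_⟩
  haveI : (tw (m : ℤ) F).IsQuasicoherent := isQCoh_of_B (B_tw _ hF)
  refine RegSheaf.isRegSheaf _ (TensorMod.FPConv.isFP_of_isFinLocFree (B_tw _ hF))
    (_root_.ZarCoh.Exchange.NearFibre.isFlatOver_of_isFinLocFree (KRR.pr n T) (B_tw _ hF))
    fun s i hi => ?_
  exact (RegSheafBC.fiberRank_congr _ (twTw (m : ℤ) (0 - (i : ℤ)) ((m : ℤ) - i) (by ring) F) i s).trans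
    (hm s i hi)

variable (ψ : (KRR.PY n T).Modules → M)

/-- The recursion through the Koszul identity. -/
def h : ℕ → (KRR.PY n T).Modules → M
  | 0 => ψ
  | k + 1 => fun F => ∑ j ∈ Finset.range (n + 1),
      (-1 : ℤ) ^ j • (n + 1).choose (j + 1) • h k (tw ((j + 1 : ℕ) : ℤ) F)

variable {ψ} (hψ : IsAdd ψ)

include hψ

theorem h_stable : ∀ {k : ℕ} {F : (KRR.PY n T).Modules}, Lev k F → h ψ (k + 1) F = h ψ k F := by
  intro k
  induction k with
  | zero =>
    intro F hF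
    have hR := lev_zero_iff.1 hF
    have := eq_sum_of_sum_eq_zero (f := fun j => ψ (tw (j : ℤ) F)) (koszul_sum F hR hψ)
    show ∑ j ∈ Finset.range (n + 1), _ = ψ F
    rw [← map_iso hψ (twZero F) (RB_congr (twZero F).symm hR)]
    exact this.symm
  | succ k ih =>
    intro F hF
    exact Finset.sum_congr rfl fun j _ => by rw [ih (lev_tw hF)]

theorem h_add_eq {k : ℕ} {F : (KRR.PY n T).Modules} (hF : Lev k F) : ∀ m, h ψ (k + m) F = h ψ k F
  | 0 => rfl
  | m + 1 => (h_stable hψ (lev_add hF m)).trans (h_add_eq hF m)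

theorem h_eq {k l : ℕ} {F : (KRR.PY n T).Modules} (hk : Lev k F) (hl : Lev l F) :
    h ψ k F = h ψ l F := by
  rw [← h_add_eq hψ hk l, ← h_add_eq hψ hl k, Nat.add_comm]

theorem h_add : ∀ {k : ℕ} (S : ShortComplex (KRR.PY n T).Modules), S.ShortExact →
    Lev k S.X₁ → Lev k S.X₂ → Lev k S.X₃ → h ψ k S.X₂ = h ψ k S.X₁ + h ψ k S.X₃ := by
  intro k
  induction k with
  | zero =>
    intro S hS h1 h2 h3
    exact hψ S hS (lev_zero_iff.1 h1) (lev_zero_iff.1 h2) (lev_zero_iff.1 h3)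
  | succ k ih =>
    intro S hS h1 h2 h3
    show ∑ j ∈ Finset.range (n + 1), _ = (∑ j ∈ Finset.range (n + 1), _) + ∑ j ∈ Finset.range (n + 1), _
    rw [← Finset.sum_add_distrib]
    refine Finset.sum_congr rfl fun j _ => ?_
    rw [← smul_add, ← smul_add]
    exact congrArg _ (congrArg _ (ih (S.map (H73.RegSeq.tb ((j + 1 : ℕ) : ℤ)))
      (hS.map_of_exact _) (lev_tw h1) (lev_tw h2) (lev_tw h3)))

variable [CompactSpace T]

/-- An additive function on regular bundles extends to the classes of all bundles. -/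
theorem exists_extend : ∃ g : SGA6.Kvb (KRR.PY n T) →+ M,
    ∀ F : (KRR.PY n T).Modules, RB F → g (KRR.cl (KRR.PY n T) F) = ψ F := by
  classical
  let H : Subtype (KRR.vbP (KRR.PY n T)) → M := fun F =>
    h ψ (exists_lev F.1 F.2).choose F.1
  have hH : ∀ (F : Subtype (KRR.vbP (KRR.PY n T))) {k : ℕ}, Lev k F.1 → H F = h ψ k F.1 :=
    fun F k hk => h_eq hψ (exists_lev F.1 F.2).choose_spec hk
  refine ⟨QuotientAddGroup.lift _ (FreeAbelianGroup.lift H) ?_, fun F hF => ?_⟩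
  · refine (AddSubgroup.closure_le _).2 ?_
    rintro x ⟨S, h1, h2, h3, hS, rfl⟩
    obtain ⟨k1, hk1⟩ := exists_lev S.X₁ h1
    obtain ⟨k2, hk2⟩ := exists_lev S.X₂ h2
    obtain ⟨k3, hk3⟩ := exists_lev S.X₃ h3
    have l1 := lev_of_le hk1 (show k1 ≤ k1 + k2 + k3 by omega)
    have l2 := lev_of_le hk2 (show k2 ≤ k1 + k2 + k3 by omega)
    have l3 := lev_of_le hk3 (show k3 ≤ k1 + k2 + k3 by omega)
    show FreeAbelianGroup.lift H _ = 0
    rw [map_sub, map_sub, FreeAbelianGroup.lift_apply_of, FreeAbelianGroup.lift_apply_of,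
      FreeAbelianGroup.lift_apply_of, hH ⟨_, h1⟩ l1, hH ⟨_, h2⟩ l2, hH ⟨_, h3⟩ l3,
      h_add hψ S hS l1 l2 l3, add_sub_cancel_left, sub_self]
  · simp only [KRR.cl, KZero.clSub, KRR.vbP, hF.1, dite_true]
    exact (FreeAbelianGroup.lift_apply_of H ⟨F, hF.1⟩).trans (hH ⟨F, hF.1⟩ (lev_zero_iff.2 hF))

omit hψ in
/-- Two homomorphisms agreeing on the classes of regular bundles are equal. -/
theorem hom_ext {a b : SGA6.Kvb (KRR.PY n T) →+ M}
    (hab : ∀ F : (KRR.PY n T).Modules, RB F →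
      a (KRR.cl (KRR.PY n T) F) = b (KRR.cl (KRR.PY n T) F)) : a = b := by
  have key : ∀ (k : ℕ) (F : (KRR.PY n T).Modules), Lev k F →
      a (KRR.cl (KRR.PY n T) F) = b (KRR.cl (KRR.PY n T) F) := by
    intro k
    induction k with
    | zero => exact fun F hF => hab F (lev_zero_iff.1 hF)
    | succ k ih =>
      intro F hF
      have := eq_sum_of_sum_eq_zero (f := fun j => KRR.cl (KRR.PY n T) (tw (j : ℤ) F))
        (koszul_cl F hF.1)
      rw [show KRR.cl (KRR.PY n T) F = KRR.cl (KRR.PY n T) (tw ((0 : ℕ) : ℤ) F) from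
        KAugNil98.Main.cl_iso (twZero F).symm hF.1, this, map_sum, map_sum]
      refine Finset.sum_congr rfl fun j _ => ?_
      rw [map_zsmul, map_zsmul, map_nsmul, map_nsmul, ih _ (lev_tw hF)]
  refine QuotientAddGroup.addMonoidHom_ext _ (FreeAbelianGroup.lift_ext _ _ fun F => ?_)
  obtain ⟨F, hF⟩ := F
  obtain ⟨k, hk⟩ := exists_lev F hF
  have := key k F hk
  have hF' : FlatMod.IsFinLocFree F := hF
  simp only [KRR.cl, KZero.clSub, KRR.vbP, hF', dite_true] at this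
  exact this

end Groth.Agent.Lib.ExchangeFP29.KPush.Ext
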