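import Groth.Agent.Lib.Lambda.PosFil
import Groth.Agent.Lib.Lambda.ExtFil

/-!
# The γ-filtration of a λ-ring generated by the powers of `u = ℓ - 1` over a base
-/

set_option autoImplicit false
set_option linter.unusedSectionVars false

open Finset LambdaRing Groth.Agent.Lib.Lambda

noncomputable section

namespace Groth.Agent.Lib.ExchangeFP29.KPush.GammaFil

universe v

variable {A B : Type v} [CommRing A] [CommRing B] [LambdaOps A] [LambdaOps B]
  (P : PosStructure A) (q : A →+* B) (u : B)

/-- `∑ F^(k-i) A · u ^ i`. -/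
def G (k : ℕ) : AddSubgroup B :=
  AddSubgroup.closure {y | ∃ (i : ℕ) (c : A), c ∈ gammaFiltration P (k - i) ∧ y = q c * u ^ i}

variable {P q u}

theorem gen_mem {k : ℕ} (i : ℕ) {c : A} (hc : c ∈ gammaFiltration P (k - i)) :
    q c * u ^ i ∈ G P q u k :=
  AddSubgroup.subset_closure ⟨i, c, hc, rfl⟩

theorem G_le {C : AddSubgroup B} {k : ℕ}
    (h : ∀ i, ∀ c ∈ gammaFiltration P (k - i), q c * u ^ i ∈ C) : G P q u k ≤ C := by
  refine (AddSubgroup.closure_le _).2 ?_
  rintro _ ⟨i, c, hc, rfl⟩
  exact h i c hc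

theorem G_anti {a b : ℕ} (h : a ≤ b) : G P q u b ≤ G P q u a :=
  G_le fun i _ hc => gen_mem i (gammaFiltration_anti (by omega) hc)

theorem G_mul {a b : ℕ} {x y : B} (hx : x ∈ G P q u a) (hy : y ∈ G P q u b) :
    x * y ∈ G P q u (a + b) := by
  suffices G P q u a ≤ (G P q u (a + b)).comap (AddMonoidHom.mulRight y) from this hx
  refine G_le fun i c hc => ?_
  show q c * u ^ i * y ∈ G P q u (a + b)
  suffices G P q u b ≤ (G P q u (a + b)).comap (AddMonoidHom.mulLeft (q c * u ^ i)) from this hy
  refine G_le fun j d hd => ?_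
  show q c * u ^ i * (q d * u ^ j) ∈ G P q u (a + b)
  rw [show q c * u ^ i * (q d * u ^ j) = q (c * d) * u ^ (i + j) by rw [map_mul, pow_add]; ring]
  exact gen_mem _ (gammaFiltration_anti (by omega) (mul_mem_gammaFiltration hc hd))

theorem map_mem {k : ℕ} {c : A} (hc : c ∈ gammaFiltration P k) : q c ∈ G P q u k := by
  simpa using gen_mem (q := q) (u := u) (k := k) 0 (c := c) (by simpa using hc)

theorem one_mem_zero : (1 : B) ∈ G P q u 0 :=
  map_one q ▸ map_mem (mem_gammaFiltration_zero 1)

theorem u_mem_one : u ∈ G P q u 1 := by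
  simpa using gen_mem (P := P) (q := q) (u := u) (k := 1) 1 (c := 1) (mem_gammaFiltration_zero _)

theorem G_pow {a : ℕ} {x : B} (hx : x ∈ G P q u a) (n : ℕ) : x ^ n ∈ G P q u (a * n) := by
  induction n with
  | zero => simpa using one_mem_zero
  | succ n ih => rw [pow_succ, Nat.mul_succ]; exact G_mul ih hx

theorem natCast_mem_zero (m : ℕ) : (m : B) ∈ G P q u 0 :=
  map_natCast q m ▸ map_mem (mem_gammaFiltration_zero (m : A))

theorem line_sub_one_mem (i : ℕ) : (1 + u) ^ i - 1 ∈ G P q u 1 := by
  induction i with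
  | zero => simp
  | succ i ih =>
    rw [show (1 + u) ^ (i + 1) - 1 = ((1 + u) ^ i - 1) + ((1 + u) ^ i - 1) * u + u by ring]
    exact add_mem (add_mem ih (G_anti (by omega) (G_mul ih u_mem_one))) u_mem_one

variable (P q u) in
/-- The elements all of whose γ-operations lie in the candidate filtration. -/
def Good (x : B) : Prop := ∀ m, gamma m x ∈ G P q u m

theorem good_zero : Good P q u (0 : B) := by
  intro m
  rcases eq_or_ne m 0 with rfl | hm
  · rw [gamma_zero_left]; exact one_mem_zero
  · rw [gamma_zero_right hm]; exact zero_mem _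

theorem good_add {x y : B} (hx : Good P q u x) (hy : Good P q u y) : Good P q u (x + y) := by
  intro m
  rw [gamma_add]
  refine sum_mem fun i hi => ?_
  simp at hi
  have := G_mul (hx i) (hy (m - i))
  rwa [show i + (m - i) = m by omega] at this

theorem good_neg {x : B} (hx : Good P q u x) : Good P q u (-x) := by
  intro m
  induction m using Nat.strong_induction_on with
  | _ m ih =>
    rcases m with _ | m
    · rw [gamma_zero_left]; exact one_mem_zero
    · rw [gamma_neg]
      refine neg_mem (sum_mem fun i hi => ?_)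
      simp at hi
      have := G_mul (hx (i + 1)) (ih (m - i) (by omega))
      rwa [show i + 1 + (m - i) = m + 1 by omega] at this

theorem good_sub {x y : B} (hx : Good P q u x) (hy : Good P q u y) : Good P q u (x - y) :=
  sub_eq_add_neg x y ▸ good_add hx (good_neg hy)

/-- A positive element twisted by a line. -/
theorem good_twist (h1 : LineLike (1 : B)) {f : A} (hf : f ∈ P.pos) {m : ℕ} (hm : P.aug f = m)
    {w : B} (hw0 : w ∈ G P q u 0) (hw : w - 1 ∈ G P q u 1)
    (hlam : ∀ j, LambdaOps.lam j (q f * w) = q (LambdaOps.lam j f) * w ^ j) :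
    Good P q u (q f * w - (m : B)) := by
  intro n
  rw [← coeff_gammaSeries, gammaSeries_sub_natCast_of_rank h1 _ m (fun i hi => by
    rw [hlam, P.lam_eq_zero f hf i (by omega), map_zero, zero_mul])]
  have hid := ExtFil.homogeneous_identity m
    (fun i => (PowerSeries.C (q (LambdaOps.lam i f)) : PowerSeries B))
    (PowerSeries.C w * PowerSeries.X) (1 - PowerSeries.X)
  have hxy : PowerSeries.C w * PowerSeries.X + (1 - PowerSeries.X) =
      (1 + PowerSeries.C (w - 1) * PowerSeries.X : PowerSeries B) := by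
    rw [map_sub, map_one]; ring
  rw [hxy] at hid
  rw [show (∑ i ∈ range (m + 1), PowerSeries.C (LambdaOps.lam i (q f * w)) * PowerSeries.X ^ i *
      (1 - PowerSeries.X) ^ (m - i)) = ∑ i ∈ range (m + 1), PowerSeries.C (q (LambdaOps.lam i f)) *
      (PowerSeries.C w * PowerSeries.X) ^ i * (1 - PowerSeries.X) ^ (m - i) from
    sum_congr rfl fun i _ => by rw [hlam, map_mul, mul_pow, map_pow]; ring, ← hid, map_sum]
  refine sum_mem fun k _ => ?_
  set g := ∑ i ∈ range (m + 1), if i ≤ k then
    (-1 : A) ^ (k - i) * ((m - i).choose (k - i) : A) * LambdaOps.lam i f else 0 with hg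
  have hgk : g ∈ gammaFiltration P k := by
    rw [hg, ← gamma_sub_natCast_of_rank (lineLike_one_of_pos P) f m
      (fun i hi => P.lam_eq_zero f hf i (by omega))]
    exact gamma_mem_gammaFiltration (by simp [hm]) k
  rw [show (∑ i ∈ range (m + 1), if i ≤ k then (-1 : PowerSeries B) ^ (k - i) *
      ((m - i).choose (k - i) : PowerSeries B) * PowerSeries.C (q (LambdaOps.lam i f)) else 0) =
      PowerSeries.C (q g) by
    rw [hg, map_sum, map_sum]
    refine sum_congr rfl fun i _ => ?_
    split_ifs <;> simp]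
  rw [mul_pow, ← map_pow, ← mul_assoc, mul_assoc (PowerSeries.C (q g) * _), ← map_mul,
    PowerSeries.coeff_C_mul, PowerSeries.coeff_X_pow_mul']
  split_ifs with hk
  · rw [show (1 + PowerSeries.C (w - 1) * PowerSeries.X : PowerSeries B) =
        PowerSeries.rescale (w - 1) (1 + PowerSeries.X) by
      rw [map_add, map_one, PowerSeries.rescale_X], ← map_pow, PowerSeries.coeff_rescale,
      coeff_one_add_X_pow_ps]
    have := G_mul (G_mul (map_mem (q := q) (u := u) hgk) (G_pow hw0 k))
      (G_mul (G_pow hw (n - k)) (natCast_mem_zero (P := P) (q := q) (u := u) ((m - k).choose (n - k))))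
    rwa [show k + 0 * k + (1 * (n - k) + 0) = n by omega] at this
  · rw [mul_zero]; exact zero_mem _

/-- If `B = ∑ A · u ^ i` and `1 + u` is a line, the γ-filtration of `B` is contained in `G`. -/
theorem gammaFiltration_le_G {Q : PosStructure B} (haug : ∀ a, Q.aug (q a) = P.aug a)
    (hu : Q.aug u = 0) (htop : ∀ x, x ∈ G P q u 0)
    (hlam : ∀ f ∈ P.pos, ∀ i j : ℕ,
      LambdaOps.lam j (q f * (1 + u) ^ i) = q (LambdaOps.lam j f) * ((1 + u) ^ i) ^ j)
    (k : ℕ) : gammaFiltration Q k ≤ G P q u k := by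
  have key : ∀ (c : A) (j : ℕ), Good P q u (q c * (1 + u) ^ j - ((Q.aug (q c * (1 + u) ^ j) : ℤ) : B)) := by
    intro c j
    obtain ⟨f₁, f₂, h₁, h₂, rfl⟩ := P.exists_sub c
    obtain ⟨m₁, hm₁⟩ : ∃ m : ℕ, P.aug f₁ = m := ⟨_, (toNat_aug_cast P h₁).symm⟩
    obtain ⟨m₂, hm₂⟩ : ∃ m : ℕ, P.aug f₂ = m := ⟨_, (toNat_aug_cast P h₂).symm⟩
    rw [show q (f₁ - f₂) * (1 + u) ^ j - ((Q.aug (q (f₁ - f₂) * (1 + u) ^ j) : ℤ) : B) =
        (q f₁ * (1 + u) ^ j - (m₁ : B)) - (q f₂ * (1 + u) ^ j - (m₂ : B)) by
      rw [map_mul, map_pow, map_add, map_one, hu, add_zero, one_pow, mul_one, haug, map_sub, map_sub,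
        hm₁, hm₂]
      push_cast
      ring]
    exact good_sub
      (good_twist (lineLike_one_of_pos Q) h₁ hm₁ (htop _) (line_sub_one_mem j) (hlam f₁ h₁ j))
      (good_twist (lineLike_one_of_pos Q) h₂ hm₂ (htop _) (line_sub_one_mem j) (hlam f₂ h₂ j))
  let H : AddSubgroup B :=
    { carrier := {x | Good P q u (x - ((Q.aug x : ℤ) : B))}
      zero_mem' := by simpa using good_zero
      add_mem' := fun {a b} ha hb => by
        simpa [add_sub_add_comm] using good_add ha hb
      neg_mem' := fun {a} ha => by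
        show Good P q u (-a - ((Q.aug (-a) : ℤ) : B))
        rw [map_neg, Int.cast_neg, show -a - -((Q.aug a : ℤ) : B) = -(a - ((Q.aug a : ℤ) : B)) by ring]
        exact good_neg ha }
  have hH : ∀ (i : ℕ) (c : A) (j : ℕ), q c * u ^ i * (1 + u) ^ j ∈ H := by
    intro i
    induction i with
    | zero =>
      intro c j
      rw [pow_zero, mul_one]
      exact key c j
    | succ i ih =>
      intro c j
      rw [show q c * u ^ (i + 1) * (1 + u) ^ j =
        q c * u ^ i * (1 + u) ^ (j + 1) - q c * u ^ i * (1 + u) ^ j by ring]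
      exact sub_mem (ih c (j + 1)) (ih c j)
  have hall : ∀ x, x ∈ H := fun x => G_le (C := H) (k := 0) (fun i c _ => by
    simpa using hH i c 0) (htop x)
  rcases eq_or_ne k 0 with rfl | hk
  · exact fun x _ => htop x
  refine gammaFiltration_le hk fun l hl hs => G_anti hs ?_
  clear hs
  induction l with
  | nil => simpa using one_mem_zero
  | cons p l ih =>
    simp only [List.map_cons, List.prod_cons, List.sum_cons]
    refine G_mul ?_ (ih fun p' hp => hl p' (by simp [hp]))
    have h : Good P q u (p.2 - ((Q.aug p.2 : ℤ) : B)) := hall p.2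
    rw [hl p (by simp), Int.cast_zero, sub_zero] at h
    exact h p.1

end Groth.Agent.Lib.ExchangeFP29.KPush.GammaFil
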