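import Groth.Agent.H73.RegSeq
import Groth.Agent.Lib.ProjKoszul.Regularity

/-!
# The Koszul complex on `P^n_T`
-/

set_option autoImplicit false
set_option linter.style.haveILetI false
universe u

open CategoryTheory CategoryTheory.Limits AlgebraicGeometry TopologicalSpace Opposite

noncomputable section

namespace Groth.Agent.Lib.ExchangeFP29.KPush.Koszul

open Groth.Agent Groth.Agent.Lib TensorMod.Basic TensorMod.Pullback ProjKoszul

variable {n : ℕ} {T : Scheme.{u}}

/-- The projection to `P^n_ℤ`. -/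
abbrev π : KRR.PY n T ⟶ CohB1.ProjSpace n (ULift.{u} ℤ) :=
  pullback.fst (CohB1.ProjSpace.toSpec n (ULift.{u} ℤ)) (specULiftZIsTerminal.from T)

/-- The preimages of the standard charts. -/
abbrev chart (t : Fin (n + 1)) : (KRR.PY n T).Opens := π ⁻¹ᵁ Mult.chart n (ULift.{u} ℤ) t

theorem iSup_chart : ⨆ t, chart (n := n) (T := T) t = ⊤ :=
  eq_top_iff.mpr fun x _ => Opens.mem_iSup.mpr (Mult.exists_mem_chart (π x))

/-- The section `X_t` of `O(1)`. -/
def sect (t : Fin (n + 1)) : Coh.structureModule (KRR.PY n T) ⟶ Twist.twistOver n T 1 :=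
  (PicLoc.pullbackStructureIso π).inv ≫ (Scheme.Modules.pullback π).map (Mult.sect t)

theorem isIso_pb_sect (t : Fin (n + 1)) :
    IsIso ((pb (chart (n := n) (T := T) t).ι).map (sect t)) := by
  have h := Mult.isIso_pb_sect (R := ULift.{u} ℤ) t
  let c := Mult.chart n (ULift.{u} ℤ) t
  let α : pb π ⋙ pb (chart (n := n) (T := T) t).ι ≅ pb c.ι ⋙ pb (π ∣_ c) :=
    Scheme.Modules.pullbackComp _ _ ≪≫
      Scheme.Modules.pullbackCongr (morphismRestrict_ι π c).symm ≪≫
      (Scheme.Modules.pullbackComp (π ∣_ c) c.ι).symm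
  haveI : IsIso ((pb (chart (n := n) (T := T) t).ι).map ((pb π).map (Mult.sect t))) := by
    have := (NatIso.isIso_map_iff α (Mult.sect t)).2 (by
      haveI := h
      exact inferInstanceAs (IsIso ((pb (π ∣_ c)).map ((pb c.ι).map (Mult.sect t)))))
    exact this
  change IsIso ((pb (chart (n := n) (T := T) t).ι).map
    ((PicLoc.pullbackStructureIso π).inv ≫ (pb π).map (Mult.sect t)))
  rw [Functor.map_comp]
  infer_instance

/-- Multiplication by `X_t`. -/
def mulX (t : Fin (n + 1)) :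
    𝟭 (KRR.PY n T).Modules ⟶ H73.RegSeq.tb (n := n) (T := T) 1 where
  app M := (rightUnit M).inv ≫ tmap (𝟙 M) (sect t)
  naturality M N f := by
    change f ≫ (rightUnit N).inv ≫ tmap (𝟙 N) (sect t) =
      ((rightUnit M).inv ≫ tmap (𝟙 M) (sect t)) ≫ tmap f (𝟙 _)
    have h : f ≫ (rightUnit N).inv = (rightUnit M).inv ≫ tmap f (𝟙 _) := by
      rw [Iso.eq_inv_comp, ← Category.assoc, Iso.comp_inv_eq]
      exact (rightUnit_natural f).symm
    rw [reassoc_of% h, Category.assoc, ← tmap_comp, ← tmap_comp]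
    simp only [Category.id_comp, Category.comp_id]

theorem isIso_pb_mulX (t : Fin (n + 1)) (M : (KRR.PY n T).Modules) :
    IsIso ((pb (chart (n := n) (T := T) t).ι).map ((mulX t).app M)) := by
  let j := (chart (n := n) (T := T) t).ι
  have := isIso_pb_sect (T := T) t
  have hiso : IsIso (tmap (𝟙 ((pb j).obj M)) ((pb j).map (sect (T := T) t))) :=
    (tensorIso (Iso.refl _) (asIso ((pb j).map (sect (T := T) t)))).isIso_hom
  have hnat : (pullbackTensorIso j M (Coh.structureModule _)).hom ≫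
      tmap (𝟙 ((pb j).obj M)) ((pb j).map (sect (T := T) t)) =
      (pb j).map (tmap (𝟙 M) (sect t)) ≫ (pullbackTensorIso j M (Twist.twistOver n T 1)).hom := by
    rw [← CategoryTheory.Functor.map_id]
    exact (delta_natural j (𝟙 M) (sect t)).symm
  have : IsIso ((pb j).map (tmap (𝟙 M) (sect t))) := by
    have e := congrArg (· ≫ (pullbackTensorIso j M (Twist.twistOver n T 1)).inv) hnat
    simp only [Category.assoc, Iso.hom_inv_id, Category.comp_id] at e
    rw [← e]
    infer_instance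
  change IsIso ((pb j).map ((rightUnit M).inv ≫ tmap (𝟙 M) (sect t)))
  rw [Functor.map_comp]
  infer_instance

variable (n T) in
/-- The coordinates, indexed cyclically. -/
def μ (s : ℕ) : 𝟭 (KRR.PY n T).Modules ⟶ H73.RegSeq.tb (n := n) (T := T) 1 :=
  mulX (Fin.ofNat (n + 1) s)

/-- The Koszul complex. -/
def koszul (M : (KRR.PY n T).Modules) : CochainComplex (KRR.PY n T).Modules ℤ :=
  (Iterate.kos (H73.RegSeq.tb 1) (μ n T) (n + 1)).obj M

theorem exactAt_koszul (M : (KRR.PY n T).Modules) (i : ℤ) : (koszul M).ExactAt i := by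
  refine Modules.Local.exact_of_restrict (chart (n := n) (T := T)) iSup_chart _ fun t => ?_
  let F := Scheme.Modules.restrictFunctor (chart (n := n) (T := T) t).ι
  exact Iterate.acyclic_map_kos (H73.RegSeq.tb 1) (μ n T) F M t.val (fun N => by
    have h : IsIso ((pb (chart (n := n) (T := T) t).ι).map ((mulX t).app N)) := isIso_pb_mulX t N
    have ht : μ n T t.val = mulX t := congrArg mulX (Fin.ofNat_val_eq_self t)
    rw [ht]
    exact (NatIso.isIso_map_iff
      (Scheme.Modules.restrictFunctorIsoPullback (chart (n := n) (T := T) t).ι) _).2 h)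
    (n + 1) t.isLt i

theorem isZero_koszul (M : (KRR.PY n T).Modules) (i : ℤ) (h : i < -((n + 1 : ℕ) : ℤ) ∨ 0 < i) :
    IsZero ((koszul M).X i) :=
  Iterate.isZero_X_of_not_mem _ (μ n T) M (n + 1) i h

/-- Iterates of the twist by one. -/
def powIso : ∀ (m : ℕ) (F : (KRR.PY n T).Modules),
    (Iterate.pow (H73.RegSeq.tb 1) m).obj F ≅ (H73.RegSeq.tb (m : ℤ)).obj F
  | 0, F => (rightUnit F).symm ≪≫ tensorIso (Iso.refl F) H73.RegSeq.overZero.symm
  | m + 1, F => powIso m ((H73.RegSeq.tb 1).obj F) ≪≫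
      H73.RegSeq.tbTb 1 (m : ℤ) ((m + 1 : ℕ) : ℤ) (by push_cast; ring) F

/-- The terms of the Koszul complex. -/
theorem nonempty_term (M : (KRR.PY n T).Modules) (j : ℕ) :
    Nonempty ((koszul M).X (-((n + 1 : ℕ) : ℤ) + j) ≅
      ∐ fun _ : Fin ((n + 1).choose j) => (H73.RegSeq.tb (j : ℤ)).obj M) := by
  obtain ⟨e⟩ := Iterate.nonempty_kos_X_iso (H73.RegSeq.tb (n := n) (T := T) 1) (μ n T) M (n + 1) 0
    j (-((n + 1 : ℕ) : ℤ) + j) (by push_cast; ring)
  exact ⟨e ≪≫ Sigma.mapIso fun _ => powIso (0 + j) M ≪≫ eqToIso (by rw [Nat.zero_add])⟩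

end Groth.Agent.Lib.ExchangeFP29.KPush.Koszul
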