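import Groth.Agent.Lib.ExchangeFP29.KPush.GammaFil
import Groth.Agent.Lib.ExchangeFP29.KPush.TwistValue
import Groth.Agent.Lib.KVec.Model
import Groth.Agent.Lib.KVec.ExtPowPull
import Groth.Agent.Lib.KVec.Pull
import Groth.Agent.Lib.H70.KRRReg.Resolution
import Groth.Agent.S15827

/-!
# `K(P^n_T)` as an algebra over `K(T)`
-/

set_option autoImplicit false
set_option linter.style.haveILetI false
set_option linter.unusedSectionVars false
universe u v

open CategoryTheory CategoryTheory.Limits AlgebraicGeometry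

noncomputable section

namespace Groth.Agent.Lib.ExchangeFP29.KPush.ModelP

open Groth.Agent Groth.Agent.Lib TensorMod.Basic Reg

attribute [local instance] HasDerivedCategory.standard

variable {n : ℕ} {T : Scheme.{u}}
  {KP : Type v} [CommRing KP] [LambdaRing.LambdaOps KP] {PP : LambdaRing.PosStructure KP}
  {φP : SGA6.Kvb (KRR.PY n T) →+ KP}
  {KY : Type v} [CommRing KY] [LambdaRing.LambdaOps KY] {PY : LambdaRing.PosStructure KY}
  {φY : SGA6.Kvb T →+ KY}
  (hKP : KRR.IsModel (KRR.PY n T) KP PP φP) (hKY : KRR.IsModel T KY PY φY)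

theorem rank_twistOver (a : ℤ) : FlatMod.IsFinLocFreeOfRank 1 (Twist.twistOver n T a) :=
  TensorMod.LocFree.of_isInvertible (ProjFibre.isInvertible_twistOver _)

theorem B_twistOver (a : ℤ) : B (Twist.twistOver n T a) := TensorMod.LocFree.of_rank (rank_twistOver a)

variable (φP) in
/-- The class of `O(a)`. -/
abbrev lv (a : ℤ) : KP := φP (KRR.cl (KRR.PY n T) (Twist.twistOver n T a))

include hKP in
theorem lv_zero : lv φP 0 = 1 := by
  rw [← hKP.map_one]
  exact congrArg φP (KAugNil98.Main.cl_iso H73.RegSeq.overZero (B_twistOver 0))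

include hKP in
theorem lv_add (a b : ℤ) : lv φP (a + b) = lv φP a * lv φP b := by
  refine ((hKP.map_mul _ _ (B_twistOver a) (B_twistOver b)).trans (congrArg φP ?_)).symm
  exact KAugNil98.Main.cl_iso (H73.RegSeq.overTensor a b)
    (TensorMod.LocFree.isFinLocFree_tensorMod (B_twistOver a) (B_twistOver b))

include hKP in
theorem lv_natCast (i : ℕ) : lv φP (i : ℤ) = lv φP 1 ^ i := by
  induction i with
  | zero => simpa using lv_zero hKP
  | succ i ih => rw [Nat.cast_succ, lv_add hKP, ih, pow_succ]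

include hKP in
theorem cl_tw (d : ℤ) {F : (KRR.PY n T).Modules} (hF : B F) :
    φP (KRR.cl _ (tw d F)) = φP (KRR.cl _ F) * lv φP d :=
  (hKP.map_mul F _ hF (B_twistOver d)).symm

include hKP in
theorem nilpotent : (lv φP 1 - 1) ^ (n + 1) = 0 := by
  have h := congrArg φP (koszul_cl (Twist.twistOver n T 0) (B_twistOver 0))
  rw [map_sum, map_zero] at h
  have h2 : ∑ j ∈ Finset.range (n + 2), (-1 : KP) ^ j * ((n + 1).choose j : KP) * lv φP 1 ^ j = 0 := by
    rw [← h]
    refine Finset.sum_congr rfl fun j _ => ?_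
    rw [map_zsmul, map_nsmul, cl_tw hKP _ (B_twistOver 0)]
    show _ = (-1 : ℤ) ^ j • (n + 1).choose j • (lv φP 0 * lv φP (j : ℤ))
    rw [lv_zero hKP, one_mul, lv_natCast hKP, zsmul_eq_mul, nsmul_eq_mul]
    push_cast
    ring
  rw [show lv φP 1 - 1 = -((-lv φP 1) + 1) by ring, neg_pow, add_pow]
  refine mul_eq_zero_of_right _ (Eq.trans ?_ h2)
  refine Finset.sum_congr rfl fun j _ => ?_
  rw [neg_pow]
  ring

include hKP in
theorem u_pow_eq_zero {i : ℕ} (hi : n < i) : (lv φP 1 - 1) ^ i = 0 := by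
  rw [show i = (n + 1) + (i - (n + 1)) by omega, pow_add, nilpotent hKP, zero_mul]

include hKP in
theorem lv_neg_one : lv φP (-1) = ∑ k ∈ Finset.range (n + 1), (-(lv φP 1 - 1)) ^ k := by
  have h1 : lv φP 1 * ∑ k ∈ Finset.range (n + 1), (-(lv φP 1 - 1)) ^ k = 1 := by
    have h := mul_neg_geom_sum (-(lv φP 1 - 1)) (n + 1)
    rw [neg_pow (lv φP 1 - 1) (n + 1), nilpotent hKP, mul_zero, sub_zero] at h
    simpa using h
  calc lv φP (-1) = lv φP (-1) * (lv φP 1 * ∑ k ∈ Finset.range (n + 1), (-(lv φP 1 - 1)) ^ k) := by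
        rw [h1, mul_one]
    _ = _ := by rw [← mul_assoc, ← lv_add hKP, neg_add_cancel, lv_zero hKP, one_mul]

universe w in
theorem hom_ext_cl {X : Scheme.{u}} {K : Type v} {M : Type w} [AddCommGroup K] [AddCommGroup M]
    {φ : SGA6.Kvb X →+ K} (hφ : Function.Surjective φ) {a b : K →+ M}
    (h : ∀ E, FlatMod.IsFinLocFree E → a (φ (KRR.cl X E)) = b (φ (KRR.cl X E))) : a = b := by
  have key : a.comp φ = b.comp φ := KRes.KSub.hom_ext fun E hE => h E hE
  ext x
  obtain ⟨z, rfl⟩ := hφ x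
  exact DFunLike.congr_fun key z

include hKP hKY in
theorem exists_pullHom {q : KY →+ KP} (hq : KRR.IsPull (KRR.pr n T) φY φP q) :
    ∃ qh : KY →+* KP, ∀ y, qh y = q y := by
  let pb := Scheme.Modules.pullback (KRR.pr n T)
  have h1 : q 1 = 1 := by
    rw [← hKY.map_one, hq _ ExtFilt.Lambda.isFinLocFree_structure, ← hKP.map_one]
    exact congrArg φP (KAugNil98.Main.cl_iso (PicLoc.pullbackStructureIso _)
      (TensorMod.LocFree.isFinLocFree_pullback _ ExtFilt.Lambda.isFinLocFree_structure))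
  have hmul : ∀ E, FlatMod.IsFinLocFree E → ∀ y,
      q (φY (KRR.cl T E) * y) = q (φY (KRR.cl T E)) * q y := by
    intro E hE
    refine DFunLike.congr_fun (hom_ext_cl hKY.bijective.2
      (a := q.comp (AddMonoidHom.mulLeft (φY (KRR.cl T E))))
      (b := (AddMonoidHom.mulLeft (q (φY (KRR.cl T E)))).comp q) fun F hF => ?_)
    show q (φY _ * φY _) = q (φY _) * q (φY _)
    rw [hKY.map_mul E F hE hF, hq E hE, hq F hF,
      hKP.map_mul _ _ (TensorMod.LocFree.isFinLocFree_pullback _ hE)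
        (TensorMod.LocFree.isFinLocFree_pullback _ hF)]
    have hEF := TensorMod.LocFree.isFinLocFree_tensorMod hE hF
    exact (hq _ hEF).trans (congrArg φP (KAugNil98.Main.cl_iso
      (TensorMod.Pullback.pullbackTensorIso (KRR.pr n T) E F)
      (TensorMod.LocFree.isFinLocFree_pullback _ hEF)))
  have hm : ∀ x y, q (x * y) = q x * q y := by
    intro x y
    refine DFunLike.congr_fun (hom_ext_cl hKY.bijective.2
      (a := q.comp (AddMonoidHom.mulRight y)) (b := (AddMonoidHom.mulRight (q y)).comp q)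
      fun E hE => hmul E hE y) x
  exact ⟨{ toFun := q, map_one' := h1, map_mul' := hm, map_zero' := map_zero q,
           map_add' := map_add q }, fun _ => rfl⟩

variable [IsNoetherian T] [ConnectedSpace ↥T]
  {qh : KY →+* KP} (hq : KRR.IsPull (KRR.pr n T) φY φP qh.toAddMonoidHom)

include hKP hKY hq in
theorem aug_pull (y : KY) : PP.aug (qh y) = PY.aug y := by
  refine DFunLike.congr_fun (hom_ext_cl hKY.bijective.2
    (a := PP.aug.toAddMonoidHom.comp qh.toAddMonoidHom) (b := PY.aug.toAddMonoidHom) fun E hE => ?_) y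
  obtain ⟨x₀⟩ : Nonempty ↥T := inferInstance
  have hr := KVec.Model.rank_of_isFinLocFree hE x₀
  show PP.aug (qh.toAddMonoidHom (φY _)) = PY.aug (φY _)
  rw [hq E hE, hKY.aug_cl _ E hr, hKP.aug_cl _ _ (TensorMod.LocFree.rank_pullback _ hr)]

include hKP in
theorem aug_lv (a : ℤ) : PP.aug (lv φP a) = 1 := by
  rw [hKP.aug_cl 1 _ (rank_twistOver a), Nat.cast_one]

include hKP in
theorem aug_u : PP.aug (lv φP 1 - 1) = 0 := by
  rw [map_sub, map_one, aug_lv hKP, sub_self]

include hKP hKY hq in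
theorem mem_G_zero (x : KP) : x ∈ GammaFil.G PY qh (lv φP 1 - 1) 0 := by
  set u := lv φP 1 - 1 with hu
  have hneg : lv φP (-1) ∈ GammaFil.G PY qh u 0 := by
    rw [lv_neg_one hKP]
    refine sum_mem fun k _ => ?_
    have h0 := GammaFil.G_pow (neg_mem (GammaFil.G_anti (Nat.zero_le 1)
      (GammaFil.u_mem_one (P := PY) (q := qh) (u := u)))) k
    simpa [hu] using h0
  let π := QuotientAddGroup.mk' (GammaFil.G PY qh u 0)
  suffices h : π.comp φP = 0 by
    obtain ⟨z, rfl⟩ := hKP.bijective.2 x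
    exact (QuotientAddGroup.eq_zero_iff _).1 (DFunLike.congr_fun h z)
  refine Ext.hom_ext fun F hF => (QuotientAddGroup.eq_zero_iff _).2 ?_
  have hFq : Coh.IsQCoh F := isQCoh_of_B hF.1
  let Z := H70.KRRReg.Resolution.iter F
  have hgood := H70.KRRReg.Resolution.good hFq hF.2
  have hZ : ∀ i, RB (Z i) := by
    intro i
    induction i with
    | zero => exact hF
    | succ i ih =>
      haveI := H70.KRRReg.Counit.epi_counit (hgood i).1 (hgood i).2
      exact ⟨TensorMod.LocFree.of_iso (H73.RegSeq.twFIso 1 _).symm (B_tw 1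
        (KAugNil98.Main.isFinLocFree_kernel _
          (TensorMod.LocFree.isFinLocFree_pullback _ (Push.isFinLocFree_push ih)) ih.1)),
        (hgood (i + 1)).2⟩
  suffices key : ∀ d i, n + 1 ≤ i + d → φP (KRR.cl _ (Z i)) ∈ GammaFil.G PY qh u 0 from
    key (n + 1) 0 (by omega)
  intro d
  induction d with
  | zero =>
    intro i hi
    rw [KAugNil98.Main.cl_isZero (H70.KRRReg.Resolution.isZero_iter hFq hF.2 i (by omega)), map_zero]
    exact zero_mem _
  | succ d ih =>
    intro i hi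
    let S := H70.KRRReg.Kernel.seq (Z i)
    have hS : S.ShortExact := H70.KRRReg.Kernel.shortExact_seq (hgood i).1 (hgood i).2
    haveI := H70.KRRReg.Counit.epi_counit (hgood i).1 (hgood i).2
    have hP2 : B S.X₂ :=
      TensorMod.LocFree.isFinLocFree_pullback _ (Push.isFinLocFree_push (hZ i))
    have hP1 : B S.X₁ := KAugNil98.Main.isFinLocFree_kernel _ hP2 (hZ i).1
    have hrel := KRes.KSub.rel (P := KRR.vbP (KRR.PY n T)) hS hP1 hP2 (hZ i).1
    let e : S.X₁ ≅ tw (-1) (Z (i + 1)) :=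
      (Ext.twZero S.X₁).symm ≪≫ (Ext.twTw 1 (-1) 0 (by norm_num) S.X₁).symm ≪≫
        (H73.RegSeq.tb (-1)).mapIso (H73.RegSeq.twFIso 1 S.X₁).symm
    have h1 : φP (KRR.cl _ S.X₁) ∈ GammaFil.G PY qh u 0 := by
      rw [KAugNil98.Main.cl_iso e hP1, cl_tw hKP _ (hZ (i + 1)).1]
      simpa using GammaFil.G_mul (ih (i + 1) (by omega)) hneg
    have h2 : φP (KRR.cl _ S.X₂) ∈ GammaFil.G PY qh u 0 := by
      have := GammaFil.map_mem (q := qh) (u := u) (Lambda.mem_gammaFiltration_zero (P := PY)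
        (φY (KRR.cl T ((Scheme.Modules.pushforward (KRR.pr n T)).obj (Z i)))))
      rwa [show qh (φY (KRR.cl T ((Scheme.Modules.pushforward (KRR.pr n T)).obj (Z i)))) =
        φP (KRR.cl _ S.X₂) from hq _ (Push.isFinLocFree_push (hZ i))] at this
    have h3 : φP (KRR.cl _ (Z i)) = φP (KRR.cl _ S.X₂) - φP (KRR.cl _ S.X₁) := by
      rw [eq_sub_iff_add_eq, ← map_add, add_comm]
      exact congrArg φP hrel.symm
    rw [h3]
    exact sub_mem h2 h1

include hKP in
theorem cl_tensorPow (a : ℤ) : ∀ j : ℕ,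
    B (CohB1.tensorPow (Twist.twistOver n T a) j) ∧
      φP (KRR.cl _ (CohB1.tensorPow (Twist.twistOver n T a) j)) = lv φP a ^ j
  | 0 => ⟨ExtFilt.Lambda.isFinLocFree_structure, by rw [pow_zero]; exact hKP.map_one⟩
  | j + 1 => ⟨TensorMod.LocFree.isFinLocFree_tensorMod (cl_tensorPow a j).1 (B_twistOver a), by
      rw [pow_succ, ← (cl_tensorPow a j).2]
      exact (hKP.map_mul _ _ (cl_tensorPow a j).1 (B_twistOver a)).symm⟩

theorem exists_ext {X : Scheme.{u}} {E : X.Modules} (hE : FlatMod.IsFinLocFree E) (j : ℕ) :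
    ∃ L : X.Modules, FlatMod.IsFinLocFree L ∧ ExtPow.IsExtPow j E L := by
  haveI := Modules.AffineSections.isQCoh_of_isFinLocFree hE
  obtain ⟨L, hL⟩ := FundLocal.ExtPowExists.exists_isExtPow (E := E) j
  exact ⟨L, GrassGen.ExtPowFree.isFinLocFree hE hL, hL⟩

include hKP hKY hq in
theorem lam_pull_twist {f : KY} (hf : f ∈ PY.pos) (a : ℤ) (j : ℕ) :
    LambdaRing.LambdaOps.lam j (qh f * lv φP a) =
      qh (LambdaRing.LambdaOps.lam j f) * lv φP a ^ j := by
  obtain ⟨m, E, -, hEr, rfl⟩ := (hKY.mem_pos_iff f).1 hf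
  have hE := TensorMod.LocFree.of_rank hEr
  obtain ⟨L, hLB, hL⟩ := exists_ext hE j
  let E' := (Scheme.Modules.pullback (KRR.pr n T)).obj E
  have hE' : B E' := TensorMod.LocFree.isFinLocFree_pullback _ hE
  obtain ⟨N, hNB, hN⟩ := exists_ext hE' j
  have hET : B (CohB1.tensorMod E' (Twist.twistOver n T a)) :=
    TensorMod.LocFree.isFinLocFree_tensorMod hE' (B_twistOver a)
  obtain ⟨M, hMB, hM⟩ := exists_ext hET j
  obtain ⟨e₁⟩ := KVec.ExtPowPull.nonempty_iso_pullback (KRR.pr n T) hE hL hN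
  obtain ⟨e₂⟩ := S15827.result E' (Twist.twistOver n T a) hE' (rank_twistOver a) j M N hM hN
  have hqE : qh (φY (KRR.cl T E)) = φP (KRR.cl _ E') := hq E hE
  have hqL : qh (φY (KRR.cl T L)) = φP (KRR.cl _ ((Scheme.Modules.pullback (KRR.pr n T)).obj L)) :=
    hq L hLB
  obtain ⟨hTB, hT⟩ := cl_tensorPow hKP a j
  rw [hKY.map_lam j E L hE hLB hL, hqE, hqL,
    KAugNil98.Main.cl_iso e₁ (TensorMod.LocFree.isFinLocFree_pullback _ hLB), ← hT,
    hKP.map_mul E' _ hE' (B_twistOver a), hKP.map_mul N _ hNB hTB]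
  exact (hKP.map_lam j _ M hET hMB hM).trans (congrArg φP (KAugNil98.Main.cl_iso e₂ hMB))

include hKP hKY hq in
/-- The γ-filtration of `K(P^n_T)` is contained in `∑ F^(k-i) K(T) · u ^ i`. -/
theorem gammaFiltration_le (k : ℕ) :
    LambdaRing.gammaFiltration PP k ≤ GammaFil.G PY qh (lv φP 1 - 1) k := by
  refine GammaFil.gammaFiltration_le_G (aug_pull hKP hKY hq) (aug_u hKP) (mem_G_zero hKP hKY hq)
    (fun f hf i j => ?_) k
  rw [show 1 + (lv φP 1 - 1) = lv φP 1 by ring, ← lv_natCast hKP]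
  exact lam_pull_twist hKP hKY hq hf _ j

end Groth.Agent.Lib.ExchangeFP29.KPush.ModelP
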