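import Groth.Agent.Lib.ExchangeFP29.KPush.Ext

/-!
# The direct image on classes of regular bundles
-/

set_option autoImplicit false
set_option linter.style.haveILetI false
universe u v

open CategoryTheory CategoryTheory.Limits AlgebraicGeometry

noncomputable section

namespace Groth.Agent.Lib.ExchangeFP29.KPush.Push

open Groth.Agent Groth.Agent.Lib TensorMod.Basic Reg

variable {n : ℕ} {T : Scheme.{u}}

theorem flat {F : (KRR.PY n T).Modules} (hF : B F) : FlatMod.IsFlatOver (KRR.pr n T) F :=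
  _root_.ZarCoh.Exchange.NearFibre.isFlatOver_of_isFinLocFree (KRR.pr n T) hF

theorem isFinLocFree_push {F : (KRR.PY n T).Modules} (hF : RB F) :
    FlatMod.IsFinLocFree ((Scheme.Modules.pushforward (KRR.pr n T)).obj F) := by
  haveI : F.IsQuasicoherent := isQCoh_of_B hF.1
  exact RegSheafBC.isFinLocFree_push F (TensorMod.FPConv.isFP_of_isFinLocFree hF.1) (flat hF.1) hF.2

theorem isZero_Rp_one {F : (KRR.PY n T).Modules} (hq : Coh.IsQCoh F)
    (hF : KRR.IsRegSheaf n T F) : IsZero (H73.RegSeq.Rp 1 F) :=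
  H73.RegSeq.isZero_congr 1 (tensorIso (Iso.refl F) H73.RegSeq.overZero ≪≫ rightUnit F)
    (H70.KRRReg.Local.isZero_Rp_of_le hq hF 1 le_rfl 0 (by omega))

/-- The direct image is exact on regular bundles. -/
theorem shortExact_push' {S : ShortComplex (KRR.PY n T).Modules} (hS : S.ShortExact)
    (hq : Coh.IsQCoh S.X₁) (h1 : KRR.IsRegSheaf n T S.X₁) : (S.map (Scheme.Modules.pushforward (KRR.pr n T))).ShortExact := by
  haveI : (Scheme.Modules.pushforward (KRR.pr n T)).IsRightAdjoint :=
    (Scheme.Modules.pullbackPushforwardAdjunction _).isRightAdjoint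
  haveI : PreservesLimitsOfSize.{0, 0} (Scheme.Modules.pushforward (KRR.pr n T)) :=
    (Scheme.Modules.pullbackPushforwardAdjunction _).rightAdjoint_preservesLimits
  haveI : PreservesFiniteLimits (Scheme.Modules.pushforward (KRR.pr n T)) :=
    PreservesLimitsOfSize.preservesFiniteLimits _
  haveI hm := hS.mono_f
  refine { exact := hS.exact.map_of_mono_of_preservesKernel _ hm inferInstance,
           mono_f := inferInstanceAs (Mono ((Scheme.Modules.pushforward (KRR.pr n T)).map S.f)),
           epi_g := ?_ }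
  have hS' : (S.map (H34.HOne.ab _)).ShortExact := H34.HOne.shortExact_toAb hS
  haveI h0 : Epi (((Coh.pushAb (KRR.pr n T)).rightDerived 0).map (S.map (H34.HOne.ab _)).g) :=
    ((H73.RegSeq.les (n := n) (T := T)).exact₃ _ hS' 0 1 rfl).epi_f
      ((isZero_Rp_one hq h1).eq_of_tgt _ _)
  have hg : Epi ((Coh.pushAb (KRR.pr n T)).map (S.map (H34.HOne.ab _)).g) :=
    ((MorphismProperty.epimorphisms _).arrow_mk_iso_iff
      (Arrow.isoMk (((Coh.pushAb (KRR.pr n T)).rightDerivedZeroIsoSelf).app _)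
        (((Coh.pushAb (KRR.pr n T)).rightDerivedZeroIsoSelf).app _)
        (((Coh.pushAb (KRR.pr n T)).rightDerivedZeroIsoSelf).hom.naturality _).symm)).1 h0
  show Epi ((Scheme.Modules.pushforward (KRR.pr n T)).map S.g)
  haveI : Epi ((H34.HOne.ab T).map ((Scheme.Modules.pushforward (KRR.pr n T)).map S.g)) := hg
  refine Preadditive.epi_of_cancel_zero _ fun {W} k hk => ?_
  refine (SheafOfModules.toSheaf T.ringCatSheaf).map_injective ?_
  show (H34.HOne.ab T).map k = (H34.HOne.ab T).map 0
  rw [Functor.map_zero, ← cancel_epi ((H34.HOne.ab T).map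
    ((Scheme.Modules.pushforward (KRR.pr n T)).map S.g)), ← Functor.map_comp, hk, Functor.map_zero,
    comp_zero]

theorem shortExact_push {S : ShortComplex (KRR.PY n T).Modules} (hS : S.ShortExact)
    (h1 : RB S.X₁) : (S.map (Scheme.Modules.pushforward (KRR.pr n T))).ShortExact :=
  shortExact_push' hS (isQCoh_of_B h1.1) h1.2

/-- The class of the direct image. -/
def ψ {M : Type v} [AddCommGroup M] (φ : SGA6.Kvb T →+ M) (F : (KRR.PY n T).Modules) : M :=
  φ (KRR.cl T ((Scheme.Modules.pushforward (KRR.pr n T)).obj F))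

theorem isAdd {M : Type v} [AddCommGroup M] (φ : SGA6.Kvb T →+ M) : IsAdd (ψ (n := n) φ) := by
  intro S hS h1 h2 h3
  rw [ψ, ψ, ψ, ← map_add]
  exact congrArg φ (KAugNil98.Main.clSub_shortExact (shortExact_push hS h1) (isFinLocFree_push h1)
    (isFinLocFree_push h2) (isFinLocFree_push h3))

theorem existsUnique_isPushPr [CompactSpace T] {KP : Type v} [CommRing KP] {KY : Type v}
    [CommRing KY] (φP : SGA6.Kvb (KRR.PY n T) →+ KP) (hφ : Function.Bijective φP)
    (φY : SGA6.Kvb T →+ KY) : ∃! g : KP →+ KY, KRR.IsPushPr n T φP φY g := by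
  obtain ⟨g₀, hg₀⟩ := Ext.exists_extend (isAdd (n := n) φY)
  let e := AddEquiv.ofBijective φP hφ
  have he : ∀ x, e.symm (φP x) = x := fun x => e.symm_apply_apply x
  refine ⟨g₀.comp e.symm.toAddMonoidHom, fun F hF hreg => ?_, fun g hg => ?_⟩
  · show g₀ (e.symm (φP _)) = _
    rw [he]
    exact hg₀ F ⟨hF, hreg⟩
  · have h : g.comp φP = g₀ := Ext.hom_ext fun F hF => (hg F hF.1 hF.2).trans (hg₀ F hF).symm
    ext z
    obtain ⟨x, rfl⟩ := hφ.2 z
    show g (φP x) = g₀ (e.symm (φP x))
    rw [he, ← h]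
    rfl

end Groth.Agent.Lib.ExchangeFP29.KPush.Push
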