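import Groth.Agent.Lib.ExchangeFP29.KPush.ModelP
import Groth.Agent.S3762
import Groth.Agent.S3798

/-!
# The push-forward and the γ-filtration on `P^n_T`
-/

set_option autoImplicit false
set_option linter.style.haveILetI false
set_option linter.unusedSectionVars false
universe u v

open CategoryTheory CategoryTheory.Limits AlgebraicGeometry

noncomputable section

namespace Groth.Agent.Lib.ExchangeFP29.KPush.ModelPush

open Groth.Agent Groth.Agent.Lib TensorMod.Basic Reg ModelP

attribute [local instance] HasDerivedCategory.standard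

variable {n : ℕ} {T : Scheme.{u}} [IsNoetherian T] [ConnectedSpace ↥T]
  {KP : Type v} [CommRing KP] [LambdaRing.LambdaOps KP] {PP : LambdaRing.PosStructure KP}
  {φP : SGA6.Kvb (KRR.PY n T) →+ KP}
  {KY : Type v} [CommRing KY] [LambdaRing.LambdaOps KY] {PY : LambdaRing.PosStructure KY}
  {φY : SGA6.Kvb T →+ KY}
  (hKP : KRR.IsModel (KRR.PY n T) KP PP φP) (hKY : KRR.IsModel T KY PY φY)
  {g : KP →+ KY} (hg : KRR.IsPushPr n T φP φY g)

include hKP hKY hg in
theorem push_lv_pow (m : ℕ) : g (lv φP 1 ^ m) = (((m + n).choose n : ℕ) : KY) := by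
  have h := TwistValue.value φY (g.comp φP) (fun F hF => hg F hF.1 hF.2) (m : ℤ) (by omega)
  rw [show ((m : ℤ) + (n : ℤ)).toNat = m + n by omega, hKY.map_one, natCast_zsmul, nsmul_one] at h
  rw [← h, ← lv_natCast hKP]
  show g _ = g (φP (KRR.cl _ (tw (m : ℤ) _)))
  rw [cl_tw hKP _ ExtFilt.Lambda.isFinLocFree_structure, hKP.map_one, one_mul]

include hKP hKY hg in
/-- `p_* (ℓ - 1) ^ n = 1`. -/
theorem push_u_pow : g ((lv φP 1 - 1) ^ n) = 1 := by
  have h1 : ∑ m ∈ Finset.range (n + 1),
      ((-1 : ℤ) ^ (n - m) * n.choose m) • (((n + m).choose n : ℕ) : ℤ) = 1 := by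
    have h := congrFun (fwdDiff_iter_choose 0 n) n
    simp only [Nat.choose_zero_right, Nat.cast_one, Nat.add_zero] at h
    rw [fwdDiff_iter_eq_sum_shift] at h
    simpa using h
  rw [sub_eq_add_neg, add_pow, map_sum]
  calc ∑ m ∈ Finset.range (n + 1), g (lv φP 1 ^ m * (-1) ^ (n - m) * (n.choose m : KP))
      = ∑ m ∈ Finset.range (n + 1),
          ((((-1 : ℤ) ^ (n - m) * n.choose m) • (((n + m).choose n : ℕ) : ℤ) : ℤ) : KY) := by
        refine Finset.sum_congr rfl fun m _ => ?_
        rw [show lv φP 1 ^ m * (-1 : KP) ^ (n - m) * (n.choose m : KP) =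
          ((-1 : ℤ) ^ (n - m) * n.choose m) • lv φP 1 ^ m by
            rw [zsmul_eq_mul]; push_cast; ring,
          map_zsmul, push_lv_pow hKP hKY hg, zsmul_eq_mul, smul_eq_mul, Nat.add_comm n m]
        push_cast
        ring
    _ = 1 := by rw [← Int.cast_sum, h1, Int.cast_one]

include hKP hKY in
theorem exists_pull : ∃ qh : KY →+* KP, KRR.IsPull (KRR.pr n T) φY φP qh.toAddMonoidHom := by
  obtain ⟨pb, hpb⟩ := KVec.Pull.exists_pull (KRR.pr n T)
  let q : KY →+ KP := (φP.comp pb).comp (AddEquiv.ofBijective φY hKY.bijective).symm.toAddMonoidHom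
  have hq : KRR.IsPull (KRR.pr n T) φY φP q := fun E hE => by
    show φP (pb ((AddEquiv.ofBijective φY hKY.bijective).symm (φY _))) = _
    exact (congrArg (fun z => φP (pb z))
      ((AddEquiv.ofBijective φY hKY.bijective).symm_apply_apply _)).trans (congrArg φP (hpb E hE))
  obtain ⟨qh, hqh⟩ := exists_pullHom hKP hKY hq
  exact ⟨qh, fun E hE => (hqh _).trans (hq E hE)⟩

variable {qh : KY →+* KP} (hq : KRR.IsPull (KRR.pr n T) φY φP qh.toAddMonoidHom)

include hKP hKY hg hq in
theorem push_pull_mul (c : KY) (x : KP) : g (qh c * x) = g x * c := by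
  rw [mul_comm]
  exact S3762.result n T KP PP φP hKP KY PY φY hKY g hg qh.toAddMonoidHom hq x c

include hKP hKY hg hq in
theorem push_mem {k : ℕ} {x : KP} (hx : x ∈ LambdaRing.gammaFiltration PP k) :
    g x ∈ LambdaRing.gammaFiltration PY (k - n) := by
  suffices h : GammaFil.G PY qh (lv φP 1 - 1) k ≤
      (LambdaRing.gammaFiltration PY (k - n)).comap g from
    h (gammaFiltration_le hKP hKY hq k hx)
  refine GammaFil.G_le fun i c hc => ?_
  show g _ ∈ LambdaRing.gammaFiltration PY (k - n)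
  rcases le_or_gt i n with hi | hi
  · rw [push_pull_mul hKP hKY hg hq]
    exact Lambda.gammaFiltration_anti (by omega) (Lambda.mul_mem_gammaFiltration_left _ hc)
  · rw [u_pow_eq_zero hKP hi, mul_zero, map_zero]
    exact zero_mem _

include hKP hKY hg hq in
theorem mem_of_pull_mem {k : ℕ} {y : KY} (hy : qh y ∈ LambdaRing.gammaFiltration PP k) :
    y ∈ LambdaRing.gammaFiltration PY k := by
  suffices h : GammaFil.G PY qh (lv φP 1 - 1) k ≤
      (LambdaRing.gammaFiltration PY k).comap
        (g.comp (AddMonoidHom.mulRight ((lv φP 1 - 1) ^ n))) by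
    have h' : g (qh y * (lv φP 1 - 1) ^ n) ∈ LambdaRing.gammaFiltration PY k :=
      h (gammaFiltration_le hKP hKY hq k hy)
    rwa [push_pull_mul hKP hKY hg hq, push_u_pow hKP hKY hg, one_mul] at h'
  refine GammaFil.G_le fun i c hc => ?_
  show g (qh c * (lv φP 1 - 1) ^ i * (lv φP 1 - 1) ^ n) ∈ LambdaRing.gammaFiltration PY k
  rw [mul_assoc, ← pow_add]
  rcases Nat.eq_zero_or_pos i with rfl | hi
  · rw [push_pull_mul hKP hKY hg hq, Nat.zero_add]
    exact Lambda.mul_mem_gammaFiltration_left _ (by simpa using hc)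
  · rw [u_pow_eq_zero hKP (by omega), mul_zero, map_zero]
    exact zero_mem _

include hKP hKY hq in
theorem isLambdaHom_pull : LambdaRing.IsLambdaHom qh := by
  have hpos : ∀ f ∈ PY.pos, ∀ i,
      qh (LambdaRing.LambdaOps.lam i f) = LambdaRing.LambdaOps.lam i (qh f) := by
    intro f hf i
    have h := lam_pull_twist hKP hKY hq hf 0 i
    rw [lv_zero hKP, one_pow, mul_one, mul_one] at h
    exact h.symm
  intro i
  induction i using Nat.strong_induction_on with
  | _ i ih =>
    intro x
    obtain ⟨e, f, he, hf, rfl⟩ := PY.exists_sub x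
    rcases i with _ | i
    · rw [LambdaRing.LambdaOps.lam_zero, LambdaRing.LambdaOps.lam_zero, map_one]
    have hA := LambdaRing.LambdaOps.lam_add (i + 1) (e - f) f
    rw [sub_add_cancel, Finset.sum_range_succ, Nat.sub_self, LambdaRing.LambdaOps.lam_zero, mul_one]
      at hA
    have hB := LambdaRing.LambdaOps.lam_add (i + 1) (qh (e - f)) (qh f)
    rw [← map_add, sub_add_cancel, Finset.sum_range_succ, Nat.sub_self,
      LambdaRing.LambdaOps.lam_zero, mul_one] at hB
    rw [eq_sub_of_add_eq' hA.symm, eq_sub_of_add_eq' hB.symm, map_sub, map_sum, hpos e he]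
    refine congrArg₂ (· - ·) rfl (Finset.sum_congr rfl fun j hj => ?_)
    rw [map_mul, ih j (Finset.mem_range.1 hj), hpos f hf]

end Groth.Agent.Lib.ExchangeFP29.KPush.ModelPush
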