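import Groth.Agent.Lib.ExchangeFP29.KPush.AltSum
import Groth.Agent.Lib.ExchangeFP29.KPush.Koszul
import Groth.Agent.Lib.KAugNil98.Main
import Groth.Agent.Lib.ExchangeFP29.RegSheafBC
import Groth.Agent.S19428
import Groth.Agent.S19431
import Groth.Agent.S19432

/-!
# Regular bundles on `P^n_T`
-/

set_option autoImplicit false
set_option linter.style.haveILetI false
universe u v

open CategoryTheory CategoryTheory.Limits AlgebraicGeometry

noncomputable section

namespace Groth.Agent.Lib.ExchangeFP29.KPush.Reg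

open Groth.Agent Groth.Agent.Lib TensorMod.Basic

variable {n : ℕ} {T : Scheme.{u}}

/-- Bundles. -/
abbrev B (F : (KRR.PY n T).Modules) : Prop := FlatMod.IsFinLocFree F

/-- Regular bundles. -/
abbrev RB (F : (KRR.PY n T).Modules) : Prop :=
  FlatMod.IsFinLocFree F ∧ KRR.IsRegSheaf n T F

/-- The twist. -/
abbrev tw (d : ℤ) (F : (KRR.PY n T).Modules) : (KRR.PY n T).Modules := (H73.RegSeq.tb d).obj F

theorem isQCoh_of_B {F : (KRR.PY n T).Modules} (hF : B F) : Coh.IsQCoh F := by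
  haveI := TensorMod.FPConv.isFP_of_isFinLocFree hF
  infer_instance

theorem B_tw (d : ℤ) {F : (KRR.PY n T).Modules} (hF : B F) : B (tw d F) :=
  TensorMod.LocFree.isFinLocFree_tensorMod hF
    (TensorMod.LocFree.of_rank (TensorMod.LocFree.of_isInvertible
      (ProjFibre.isInvertible_twistOver d)))

theorem B_biprod {F G : (KRR.PY n T).Modules} (hF : B F) (hG : B G) : B (F ⊞ G) :=
  TensorMod.LocFree.of_iso (biprod.isoCoprod F G).symm
    (TensorMod.LocFree.isFinLocFree_biprod hF hG)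

theorem reg_congr {F G : (KRR.PY n T).Modules} (e : F ≅ G) (h : KRR.IsRegSheaf n T F) :
    KRR.IsRegSheaf n T G := by
  rw [H73.RegSeq.reg_iff] at h ⊢
  exact fun i hi => H73.RegSeq.isZero_congr i ((H73.RegSeq.tb _).mapIso e) (h i hi)

theorem RB_congr {F G : (KRR.PY n T).Modules} (e : F ≅ G) (h : RB F) : RB G :=
  ⟨TensorMod.LocFree.of_iso e h.1, reg_congr e h.2⟩

theorem RB_of_isZero {F : (KRR.PY n T).Modules} (h : IsZero F) : RB F := by
  refine ⟨KAugNil98.Main.isFinLocFree_isZero h, ?_⟩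
  haveI : (Coh.pushAb (KRR.pr n T)).Additive := inferInstance
  intro i _
  refine ((Coh.RpushAb (KRR.pr n T) i).map_isZero (ProjFibre.isZero_toAb ?_))
  exact (H73.RegSeq.tb _).map_isZero h |>.of_iso (H73.RegSeq.twFIso _ F)

theorem RB_tw {F : (KRR.PY n T).Modules} (h : RB F) (j : ℕ) : RB (tw (j : ℤ) F) :=
  ⟨B_tw _ h.1, reg_congr (H73.RegSeq.twFIso _ F) (Groth.Agent.S19428.result n T F (isQCoh_of_B h.1) h.2 j)⟩

theorem RB_X2 {S : ShortComplex (KRR.PY n T).Modules} (hS : S.ShortExact) (h1 : RB S.X₁)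
    (h2 : B S.X₂) (h3 : RB S.X₃) : RB S.X₂ :=
  ⟨h2, Groth.Agent.S19431.result n T S hS (isQCoh_of_B h1.1) (isQCoh_of_B h2) (isQCoh_of_B h3.1)
    h1.2 h3.2⟩

theorem RB_X3 {S : ShortComplex (KRR.PY n T).Modules} (hS : S.ShortExact) (h1 : RB S.X₁)
    (h2 : RB S.X₂) (h3 : B S.X₃) : RB S.X₃ :=
  ⟨h3, Groth.Agent.S19432.result n T S hS (isQCoh_of_B h1.1) (isQCoh_of_B h2.1) (isQCoh_of_B h3)
    h2.2 (Groth.Agent.S19428.result n T _ (isQCoh_of_B h1.1) h1.2 1)⟩

section Additive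

variable {M : Type v} [AddCommGroup M] (ψ : (KRR.PY n T).Modules → M)

/-- Additivity on the short exact sequences of regular bundles. -/
abbrev IsAdd : Prop :=
  ∀ S : ShortComplex (KRR.PY n T).Modules, S.ShortExact → RB S.X₁ → RB S.X₂ → RB S.X₃ →
    ψ S.X₂ = ψ S.X₁ + ψ S.X₃

variable {ψ} (hψ : IsAdd ψ)

include hψ

theorem map_zero' {A : (KRR.PY n T).Modules} (h : IsZero A) : ψ A = 0 := by
  have hS : (ShortComplex.mk (0 : A ⟶ A) (0 : A ⟶ A) (by simp)).ShortExact :=
    { exact := ShortComplex.exact_of_isZero_X₂ _ h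
      mono_f := ⟨fun _ _ _ => h.eq_of_tgt _ _⟩
      epi_g := ⟨fun _ _ _ => h.eq_of_src _ _⟩ }
  exact left_eq_add.mp (hψ _ hS (RB_of_isZero h) (RB_of_isZero h) (RB_of_isZero h))

theorem map_iso {A C : (KRR.PY n T).Modules} (e : A ≅ C) (hA : RB A) : ψ A = ψ C := by
  obtain ⟨Z, hZ⟩ : ∃ Z : (KRR.PY n T).Modules, IsZero Z := HasZeroObject.zero
  have hS : (ShortComplex.mk (0 : Z ⟶ A) e.hom (by simp)).ShortExact :=
    { exact := (ShortComplex.exact_iff_mono _ rfl).2 inferInstance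
      mono_f := ⟨fun _ _ _ => hZ.eq_of_tgt _ _⟩
      epi_g := inferInstance }
  have := hψ _ hS (RB_of_isZero hZ) hA (RB_congr e hA)
  simpa [map_zero' hψ hZ] using this

theorem map_sigma {A : (KRR.PY n T).Modules} (hA : RB A) :
    ∀ m : ℕ, RB (∐ fun _ : Fin m => A) ∧ ψ (∐ fun _ : Fin m => A) = m • ψ A := by
  intro m
  induction m with
  | zero =>
    have hz : IsZero (∐ fun _ : Fin 0 => A) :=
      (IsZero.iff_id_eq_zero _).2 (Sigma.hom_ext _ _ fun b => Fin.elim0 b)
    exact ⟨RB_of_isZero hz, by rw [map_zero' hψ hz, zero_smul]⟩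
  | succ m ih =>
    let e : (∐ fun _ : Fin m => A) ⊞ A ≅ ∐ fun _ : Fin (m + 1) => A :=
      biprod.mapIso (Iso.refl _) (coproductUniqueIso fun _ : Fin 1 => A).symm ≪≫
        ProjKoszul.Iterate.biprodSigmaIso A m 1
    have hS := (ShortComplex.Splitting.ofHasBinaryBiproduct (∐ fun _ : Fin m => A) A).shortExact
    have hb : RB ((∐ fun _ : Fin m => A) ⊞ A) :=
      RB_X2 hS ih.1 (B_biprod ih.1.1 hA.1) hA
    have h2 : ψ ((∐ fun _ : Fin m => A) ⊞ A) = ψ (∐ fun _ : Fin m => A) + ψ A :=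
      hψ _ hS ih.1 hb hA
    exact ⟨RB_congr e hb, by rw [← map_iso hψ e hb, h2, ih.2, succ_nsmul]⟩

end Additive

section Koszul

open Groth.Agent.Lib.ExchangeFP29.KPush.Koszul

variable (F : (KRR.PY n T).Modules)

theorem B_sigma {A : (KRR.PY n T).Modules} (hA : B A) : ∀ m : ℕ, B (∐ fun _ : Fin m => A) := by
  intro m
  induction m with
  | zero =>
    exact KAugNil98.Main.isFinLocFree_isZero
      ((IsZero.iff_id_eq_zero _).2 (Sigma.hom_ext _ _ fun b => Fin.elim0 b))
  | succ m ih =>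
    exact TensorMod.LocFree.of_iso (biprod.mapIso (Iso.refl _)
      (coproductUniqueIso fun _ : Fin 1 => A).symm ≪≫ ProjKoszul.Iterate.biprodSigmaIso A m 1)
      (B_biprod ih hA)

theorem B_term (hF : B F) (j : ℕ) : B ((koszul F).X (-((n + 1 : ℕ) : ℤ) + j)) := by
  obtain ⟨e⟩ := nonempty_term F j
  exact TensorMod.LocFree.of_iso e.symm (B_sigma (B_tw _ hF) _)

theorem B_cycles (hF : B F) : ∀ j, j ≤ n + 1 → B ((koszul F).cycles (-((n + 1 : ℕ) : ℤ) + j)) := by
  suffices h : ∀ k j, j + k = n + 1 → B ((koszul F).cycles (-((n + 1 : ℕ) : ℤ) + j)) from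
    fun j hj => h (n + 1 - j) j (by omega)
  intro k
  induction k with
  | zero =>
    intro j hj
    exact TensorMod.LocFree.of_iso
      (AltSum.topIso (koszul F) _ (isZero_koszul F _ (Or.inr (by omega)))).symm (B_term F hF j)
  | succ k ih =>
    intro j hj
    have hS := AltSum.shortExact_sc (koszul F) (-((n + 1 : ℕ) : ℤ) + j) (exactAt_koszul F _)
    haveI := hS.epi_g
    have h3 : B (AltSum.sc (koszul F) (-((n + 1 : ℕ) : ℤ) + j)).X₃ := by
      show B ((koszul F).cycles _)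
      rw [show -((n + 1 : ℕ) : ℤ) + (j : ℤ) + 1 = -((n + 1 : ℕ) : ℤ) + ((j + 1 : ℕ) : ℤ) by
        push_cast; ring]
      exact ih (j + 1) (by omega)
    exact TensorMod.LocFree.of_iso ((kernelIsKernel _).conePointUniqueUpToIso hS.fIsKernel)
      (KAugNil98.Main.isFinLocFree_kernel (AltSum.sc (koszul F) (-((n + 1 : ℕ) : ℤ) + j)).g
        (B_term F hF j) h3)

/-- The Koszul identity for an additive function on regular bundles. -/
theorem koszul_sum (hF : RB F) {M : Type v} [AddCommGroup M] {ψ : (KRR.PY n T).Modules → M}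
    (hψ : IsAdd ψ) :
    ∑ j ∈ Finset.range (n + 2),
      (-1 : ℤ) ^ j • (n + 1).choose j • ψ (tw (j : ℤ) F) = 0 := by
  have hX : ∀ j : ℕ, RB ((koszul F).X (-((n + 1 : ℕ) : ℤ) + j)) ∧
      ψ ((koszul F).X (-((n + 1 : ℕ) : ℤ) + j)) = (n + 1).choose j • ψ (tw (j : ℤ) F) := fun j => by
    obtain ⟨e⟩ := nonempty_term F j
    obtain ⟨h1, h2⟩ := map_sigma hψ (RB_tw hF j) ((n + 1).choose j)
    exact ⟨RB_congr e.symm h1, by rw [← map_iso hψ e.symm h1, h2]⟩
  have hZ : ∀ j, j ≤ n + 1 → RB ((koszul F).cycles (-((n + 1 : ℕ) : ℤ) + j)) := by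
    intro j
    induction j with
    | zero =>
      exact fun _ => RB_of_isZero (AltSum.isZero_cycles _ _ (exactAt_koszul F _)
        (isZero_koszul F _ (Or.inl (by omega))))
    | succ j ih =>
      intro hj
      have hS := AltSum.shortExact_sc (koszul F) (-((n + 1 : ℕ) : ℤ) + j) (exactAt_koszul F _)
      have e : -((n + 1 : ℕ) : ℤ) + (j : ℤ) + 1 = -((n + 1 : ℕ) : ℤ) + ((j + 1 : ℕ) : ℤ) := by
        push_cast; ring
      have h3 : B (AltSum.sc (koszul F) (-((n + 1 : ℕ) : ℤ) + j)).X₃ := by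
        show B ((koszul F).cycles _)
        rw [e]
        exact B_cycles F hF.1 (j + 1) hj
      have := RB_X3 hS (ih (by omega)) (hX j).1 h3
      rw [← e]
      exact this
  have := AltSum.alt_sum (koszul F) RB ψ hψ (fun e h => map_iso hψ e h)
    (fun _ h => map_zero' hψ h) (n + 1) (exactAt_koszul F)
    (isZero_koszul F 1 (Or.inr one_pos)) (isZero_koszul F _ (Or.inl (by omega)))
    (fun j _ => (hX j).1) hZ
  simp only [fun j => (hX j).2] at this
  exact this

/-- The Koszul identity for classes of bundles. -/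
theorem koszul_cl (hF : B F) :
    ∑ j ∈ Finset.range (n + 2),
      (-1 : ℤ) ^ j • (n + 1).choose j • KRR.cl (KRR.PY n T) (tw (j : ℤ) F) = 0 := by
  have hiso : ∀ {A C : (KRR.PY n T).Modules}, (A ≅ C) → B A →
      KRR.cl (KRR.PY n T) A = KRR.cl (KRR.PY n T) C := fun e h => KAugNil98.Main.cl_iso e h
  have hsum : ∀ {A : (KRR.PY n T).Modules}, B A → ∀ m : ℕ,
      KRR.cl (KRR.PY n T) (∐ fun _ : Fin m => A) = m • KRR.cl (KRR.PY n T) A := by
    intro A hA m
    induction m with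
    | zero =>
      rw [zero_smul]
      exact KAugNil98.Main.cl_isZero
        ((IsZero.iff_id_eq_zero _).2 (Sigma.hom_ext _ _ fun b => Fin.elim0 b))
    | succ m ih =>
      have hS := (ShortComplex.Splitting.ofHasBinaryBiproduct (∐ fun _ : Fin m => A) A).shortExact
      have hb := B_biprod (B_sigma hA m) hA
      have h := KAugNil98.Main.clSub_shortExact hS (B_sigma hA m) hb hA
      rw [← hiso (biprod.mapIso (Iso.refl _) (coproductUniqueIso fun _ : Fin 1 => A).symm ≪≫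
        ProjKoszul.Iterate.biprodSigmaIso A m 1) hb]
      refine h.trans ?_
      rw [succ_nsmul, ← ih]
  have hX : ∀ j : ℕ, KRR.cl (KRR.PY n T) ((koszul F).X (-((n + 1 : ℕ) : ℤ) + j)) =
      (n + 1).choose j • KRR.cl (KRR.PY n T) (tw (j : ℤ) F) := fun j => by
    obtain ⟨e⟩ := nonempty_term F j
    rw [← hiso e.symm (B_sigma (B_tw _ hF) _), hsum (B_tw _ hF)]
  have := AltSum.alt_sum (koszul F) B (KRR.cl (KRR.PY n T))
    (fun S hS h1 h2 h3 => KAugNil98.Main.clSub_shortExact hS h1 h2 h3) hiso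
    (fun _ h => KAugNil98.Main.cl_isZero h) (n + 1) (exactAt_koszul F)
    (isZero_koszul F 1 (Or.inr one_pos)) (isZero_koszul F _ (Or.inl (by omega)))
    (fun j _ => B_term F hF j) (B_cycles F hF)
  simp only [hX] at this
  exact this

end Koszul

end Groth.Agent.Lib.ExchangeFP29.KPush.Reg
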